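import Cfsg.Agent.H962.PP.Main
import Cfsg.Agent.Lib.Zsigmondy
import Mathlib.LinearAlgebra.Matrix.SpecialLinearGroup
import Mathlib.LinearAlgebra.Matrix.ProjectiveSpecialLinearGroup
import Mathlib.RingTheory.Polynomial.Cyclotomic.Factorization
import Mathlib.FieldTheory.IsAlgClosed.AlgebraicClosure

/-!
# Products of two elements of prescribed order in `SL_n(F)` and `PSL_n(F)`
-/

set_option autoImplicit false

namespace Cfsg.Agent.H962.PP

open Matrix Polynomial

/-- `(X - 1) f` divides `X ^ s - 1`, `f` monic of degree `d` with `(-1) ^ d * f.coeff 0 = 1`. -/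
def Adm (F : Type*) [Field F] (d s : ℕ) : Prop :=
  ∃ f : F[X], f.Monic ∧ f.natDegree = d ∧ (X - 1) * f ∣ X ^ s - 1 ∧ (-1) ^ d * f.coeff 0 = 1

section field
variable {F : Type*} [Field F]

/-- the constant coefficient of a divisor of `X ^ s - 1` -/
theorem const_pow {f : F[X]} (hf : f.Monic) {s : ℕ} (hdvd : f ∣ X ^ s - 1) :
    ((-1) ^ f.natDegree * f.coeff 0) ^ s = 1 := by
  obtain ⟨φ, hφ⟩ : ∃ φ : F →+* AlgebraicClosure F, φ = algebraMap F (AlgebraicClosure F) :=
    ⟨_, rfl⟩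
  have hfm : (f.map φ).Monic := hf.map φ
  have hspl : (f.map φ).Splits := IsAlgClosed.splits _
  have h0 := hspl.coeff_zero_eq_prod_roots_of_monic hfm
  rw [hf.natDegree_map φ] at h0
  have hroots : ((f.map φ).roots.prod) ^ s = 1 := by
    apply Multiset.prod_induction (fun z : AlgebraicClosure F => z ^ s = 1)
    · intro a b ha hb; rw [mul_pow, ha, hb, one_mul]
    · exact one_pow s
    · intro z hz
      have h1 : (f.map φ).IsRoot z := Polynomial.isRoot_of_mem_roots hz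
      have h2 : f.map φ ∣ X ^ s - 1 := by
        have := Polynomial.map_dvd φ hdvd
        simpa using this
      have h3 := h1.dvd h2
      rw [IsRoot, eval_sub, eval_pow, eval_X, eval_one, sub_eq_zero] at h3
      exact h3
  apply φ.injective
  rw [map_pow, map_one, map_mul, map_pow, map_neg, map_one, ← Polynomial.coeff_map, h0,
    ← mul_assoc, ← mul_pow]
  simpa using hroots

theorem eq_one_of_pow_eq_one [Finite F] {s : ℕ} (hs : s.Coprime (Nat.card F - 1)) {c : F}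
    (hc : c ^ s = 1) (hs0 : s ≠ 0) : c = 1 := by
  have : Fintype F := Fintype.ofFinite F
  have hc0 : c ≠ 0 := by
    rintro rfl
    rw [zero_pow hs0] at hc
    exact zero_ne_one hc
  have h1 : c ^ (Nat.card F - 1) = 1 := by
    rw [Nat.card_eq_fintype_card]; exact FiniteField.pow_card_sub_one_eq_one c hc0
  have h2 := Nat.dvd_gcd (orderOf_dvd_of_pow_eq_one hc) (orderOf_dvd_of_pow_eq_one h1)
  rw [hs] at h2
  exact orderOf_eq_one_iff.mp (Nat.dvd_one.mp h2)

/-- **prime `s` with `q` of order `d` modulo `s`** -/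
theorem adm_prime [Finite F] {s d : ℕ} (hs : s.Prime) (hd : 2 ≤ d)
    (ho : orderOf ((Nat.card F : ℕ) : ZMod s) = d) : Adm F d s := by
  classical
  have : Fintype F := Fintype.ofFinite F
  have := Fact.mk hs
  obtain ⟨p, hpc⟩ := CharP.exists F
  have hp : Fact p.Prime := ⟨CharP.char_is_prime F p⟩
  obtain ⟨e, he⟩ := FiniteField.card F p
  have hK : Fintype.card F = p ^ (e : ℕ) := he.2
  have hq : Nat.card F = p ^ (e : ℕ) := by rw [Nat.card_eq_fintype_card, hK]
  have hne : p ≠ s := by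
    rintro rfl
    rw [hq, Nat.cast_pow, CharP.cast_eq_zero, zero_pow (PNat.ne_zero e)] at ho
    rw [orderOf_eq_zero] at ho
    · omega
    · rw [isOfFinOrder_iff_pow_eq_one]
      rintro ⟨n, hn, h⟩
      rw [zero_pow (by omega)] at h
      exact zero_ne_one h
  have hcop : p.Coprime s := (Nat.coprime_primes hp.out hs).mpr hne
  have hdeg : 0 < (cyclotomic s F).natDegree := by
    rw [natDegree_cyclotomic]; exact Nat.totient_pos.mpr hs.pos
  obtain ⟨g, hg, hgd⟩ := Polynomial.exists_monic_irreducible_factor (cyclotomic s F)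
    (Polynomial.not_isUnit_of_natDegree_pos _ hdeg)
  have hgdeg : g.natDegree = d := by
    rw [Polynomial.natDegree_of_dvd_cyclotomic_of_irreducible hK hcop hgd.2 hgd.1, ← orderOf_units,
      ← ho, ZMod.coe_unitOfCoprime, hq]
  have hXs : cyclotomic s F * (X - 1) = X ^ s - 1 := cyclotomic_prime_mul_X_sub_one F s
  have hdvd : (X - 1) * g ∣ X ^ s - 1 := by
    rw [← hXs, mul_comm]
    exact mul_dvd_mul_right hgd.2 _
  have hcs : s.Coprime (Nat.card F - 1) := by
    rw [hs.coprime_iff_not_dvd]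
    intro h
    have h1 : s ∣ Nat.card F ^ 1 - 1 := by rwa [pow_one]
    rw [Lib.Zsigmondy.dvd_pow_sub_one_iff Nat.card_pos, ho] at h1
    have := Nat.le_of_dvd one_pos h1
    omega
  refine ⟨g, hg, hgdeg, hdvd, ?_⟩
  apply eq_one_of_pow_eq_one hcs _ hs.ne_zero
  rw [← hgdeg]
  exact const_pow hg (dvd_trans (dvd_mul_left _ _) hdvd)

/-- the cyclotomic polynomial of prime index -/
theorem adm_cyclo {s : ℕ} (hs : s.Prime) (hs2 : s ≠ 2) : Adm F (s - 1) s := by
  have := Fact.mk hs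
  refine ⟨cyclotomic s F, cyclotomic.monic s F, ?_, ?_, ?_⟩
  · rw [natDegree_cyclotomic, Nat.totient_prime hs]
  · rw [mul_comm, cyclotomic_prime_mul_X_sub_one]
  · rw [cyclotomic_coeff_zero F hs.one_lt, mul_one]
    exact ((hs.even_sub_one hs2)).neg_one_pow

/-- the characteristic polynomial divides `X ^ s - 1` -/
theorem pow_eq_one_of_charpoly {n s : ℕ} {x : Matrix (Fin n) (Fin n) F}
    (h : x.charpoly ∣ X ^ s - 1) : x ^ s = 1 := by
  obtain ⟨g, hg⟩ := h
  have h1 : aeval x (X ^ s - 1 : F[X]) = 0 := by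
    rw [hg, map_mul, Matrix.aeval_self_charpoly, zero_mul]
  rwa [map_sub, map_pow, aeval_X, map_one, sub_eq_zero] at h1

/-- **`SL_n(F)`** -/
theorem sl_mul {k : ℕ} (A : SpecialLinearGroup (Fin (k + 2)) F)
    (hA : A ∉ Subgroup.center (SpecialLinearGroup (Fin (k + 2)) F)) {s t : ℕ}
    (hs : Adm F (k + 2) s) (ht : Adm F (k + 1) t) :
    ∃ x y : SpecialLinearGroup (Fin (k + 2)) F, A = x * y ∧ x ^ s = 1 ∧ y ^ t = 1 := by
  obtain ⟨p, hp, hpdeg, hpdvd, hp0⟩ := hs
  obtain ⟨f, hf, hfdeg, hfdvd, hf0⟩ := ht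
  have hsc : ∀ c : F, (A : Matrix (Fin (k + 2)) (Fin (k + 2)) F) ≠ scalar (Fin (k + 2)) c := by
    intro c hc
    apply hA
    rw [Matrix.SpecialLinearGroup.mem_center_iff]
    refine ⟨c, ?_, hc.symm⟩
    have h1 := A.det_coe
    rw [hc, Matrix.scalar_apply, Matrix.det_diagonal, Finset.prod_const, Finset.card_univ] at h1
    exact h1
  obtain ⟨x, y, hxy, hxp, -, c, hc0, hyc⟩ := exists_mul (A : Matrix (Fin (k + 2)) (Fin (k + 2)) F)
    (by rw [A.det_coe]; exact one_ne_zero) hsc hp hpdeg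
    (by rintro h; rw [h, mul_zero] at hp0; exact zero_ne_one hp0) hf hfdeg
    (by rintro h; rw [h, mul_zero] at hf0; exact zero_ne_one hf0)
  have hxdet : x.det = 1 := by
    rw [Matrix.det_eq_sign_charpoly_coeff, hxp, Fintype.card_fin, hp0]
  have hydet : y.det = 1 := by
    have h1 := A.det_coe
    rwa [hxy, det_mul, hxdet, one_mul] at h1
  have hc : c = 1 := by
    rw [Matrix.det_eq_sign_charpoly_coeff, hyc, Fintype.card_fin, mul_coeff_zero, coeff_sub,
      coeff_X_zero, coeff_C_zero, zero_sub] at hydet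
    have h1 : (-1 : F) ^ (k + 2) * (-c * f.coeff 0) = c * ((-1) ^ (k + 1) * f.coeff 0) := by ring
    rwa [h1, hf0, mul_one] at hydet
  have hxs : x ^ s = 1 := pow_eq_one_of_charpoly (by
    rw [hxp]; exact dvd_trans (dvd_mul_left _ _) hpdvd)
  have hyt : y ^ t = 1 := pow_eq_one_of_charpoly (by rw [hyc, hc, map_one]; exact hfdvd)
  obtain ⟨x', hx'⟩ : ∃ x' : SpecialLinearGroup (Fin (k + 2)) F, x'.val = x := ⟨⟨x, hxdet⟩, rfl⟩
  obtain ⟨y', hy'⟩ : ∃ y' : SpecialLinearGroup (Fin (k + 2)) F, y'.val = y := ⟨⟨y, hydet⟩, rfl⟩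
  rw [← hx', ← hy'] at hxy
  rw [← hx'] at hxs
  rw [← hy'] at hyt
  exact ⟨x', y', Subtype.ext (hxy.trans (Matrix.SpecialLinearGroup.coe_mul x' y').symm),
    Subtype.ext ((Matrix.SpecialLinearGroup.coe_pow x' s).trans (hxs.trans Matrix.SpecialLinearGroup.coe_one.symm)),
    Subtype.ext ((Matrix.SpecialLinearGroup.coe_pow y' t).trans (hyt.trans Matrix.SpecialLinearGroup.coe_one.symm))⟩

/-- **`PSL_n(F)`** -/
theorem psl_mul {k s t : ℕ} (hs : Adm F (k + 2) s) (ht : Adm F (k + 1) t)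
    (g : ProjectiveSpecialLinearGroup (Fin (k + 2)) F) :
    ∃ x y : ProjectiveSpecialLinearGroup (Fin (k + 2)) F, g = x * y ∧ x ^ s = 1 ∧ y ^ t = 1 := by
  obtain ⟨A, rfl⟩ := QuotientGroup.mk'_surjective
    (Subgroup.center (SpecialLinearGroup (Fin (k + 2)) F)) g
  by_cases hA : A ∈ Subgroup.center (SpecialLinearGroup (Fin (k + 2)) F)
  · refine ⟨1, 1, ?_, one_pow _, one_pow _⟩
    rw [mul_one]
    exact (QuotientGroup.eq_one_iff A).mpr hA
  · obtain ⟨x, y, hxy, hx, hy⟩ := sl_mul A hA hs ht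
    refine ⟨QuotientGroup.mk' _ x, QuotientGroup.mk' _ y, ?_, ?_, ?_⟩
    · rw [hxy, map_mul]
    · rw [← map_pow, hx, map_one]
    · rw [← map_pow, hy, map_one]

/-- admissible primes -/
theorem exists_adm [Finite F] {d : ℕ} (hd : 3 ≤ d) :
    ∃ s : ℕ, s.Prime ∧ d + 1 ≤ s ∧ 5 ≤ s ∧ ¬ s ∣ Nat.card F ∧ Adm F d s := by
  have hq : 2 ≤ Nat.card F := Finite.one_lt_card
  by_cases h26 : Nat.card F = 2 ∧ d = 6
  · refine ⟨7, by norm_num, by omega, by norm_num, by rw [h26.1]; norm_num, ?_⟩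
    rw [h26.2]
    exact adm_cyclo (s := 7) (by norm_num) (by norm_num)
  · obtain ⟨s, hs, hord⟩ := Lib.Zsigmondy.exists_prime_orderOf hq (n := d) (by omega)
      (by omega) h26
    have hsq : ¬ s ∣ Nat.card F := by
      intro h
      have := Fact.mk hs
      rw [(ZMod.natCast_eq_zero_iff (Nat.card F) s).2 h, orderOf_eq_zero] at hord
      · omega
      · rw [isOfFinOrder_iff_pow_eq_one]
        rintro ⟨n, hn, h⟩
        rw [zero_pow (by omega)] at h
        exact zero_ne_one h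
    have h1 := Lib.Zsigmondy.orderOf_dvd_pred hs hsq
    rw [hord] at h1
    have h2 : d ≤ s - 1 := Nat.le_of_dvd (by have := hs.two_le; omega) h1
    have h3 : s ≠ 4 := by rintro rfl; norm_num at hs
    exact ⟨s, hs, by omega, by omega, hsq, adm_prime hs (by omega) hord⟩

end field

/-- **`PSL_n(F)`, `n ≥ 4`**: two primes `s ≥ n + 1`, `t ≥ n`, `t ≥ 5`, prime to `q`, such that every
element is a product `x y` with `x ^ s = 1`, `y ^ t = 1`. -/
theorem psl_two_primes {n : ℕ} (hn : 4 ≤ n) (F : Type*) [Field F] [Finite F] :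
    ∃ s t : ℕ, s.Prime ∧ t.Prime ∧ n + 1 ≤ s ∧ n ≤ t ∧ 5 ≤ t ∧ ¬ s ∣ Nat.card F ∧
      ¬ t ∣ Nat.card F ∧ ∀ g : ProjectiveSpecialLinearGroup (Fin n) F,
        ∃ x y : ProjectiveSpecialLinearGroup (Fin n) F, g = x * y ∧ x ^ s = 1 ∧ y ^ t = 1 := by
  obtain ⟨k, rfl⟩ : ∃ k, n = k + 2 := ⟨n - 2, by omega⟩
  obtain ⟨s, hs, hs1, -, hsq, hsa⟩ := exists_adm (F := F) (d := k + 2) (by omega)
  obtain ⟨t, ht, ht1, ht5, htq, hta⟩ := exists_adm (F := F) (d := k + 1) (by omega)
  exact ⟨s, t, hs, ht, by omega, by omega, ht5, hsq, htq, fun g => psl_mul hsa hta g⟩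

end Cfsg.Agent.H962.PP
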