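import Cfsg.Agent.H962.PP.Psl
import Cfsg.Agent.H78.Pw.Base

/-!
# Products of two elements of order prime to `N` in `PSL_n(F)` (for S2465)

`pw_psl` (`n ≥ 4`), `pw_psl_three` (`n = 3`, `|F| ≠ 2, 3`), `allp_psl_three` (`n = 3`, `p ≥ 5`).
-/

set_option autoImplicit false

namespace Cfsg.Agent.H962.PP

open Matrix Polynomial
open Cfsg.Agent.H78.Pw

section field
variable {F : Type*} [Field F]

/-- unipotent elements -/
theorem adm_unip {r : ℕ} [hr : Fact r.Prime] [CharP F r] {d j : ℕ} (h : d + 1 ≤ r ^ j) :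
    Adm F d (r ^ j) := by
  refine ⟨(X - 1) ^ d, ?_, ?_, ?_, ?_⟩
  · rw [← C_1]; exact (monic_X_sub_C 1).pow d
  · rw [← C_1, natDegree_pow, natDegree_X_sub_C, mul_one]
  · have h1 : (X ^ (r ^ j) - 1 : F[X]) = (X - 1) ^ (r ^ j) := by
      rw [sub_pow_char_pow, one_pow]
    rw [h1, ← pow_succ']
    exact pow_dvd_pow _ h
  · rw [coeff_zero_eq_eval_zero, eval_pow, eval_sub, eval_X, eval_one, zero_sub, ← mul_pow]
    simp

/-- order 4, degree 2 -/
theorem adm_four : Adm F 2 4 := by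
  refine ⟨X ^ 2 + 1, ?_, ?_, ?_, ?_⟩
  · rw [← C_1]; exact monic_X_pow_add_C 1 (by norm_num)
  · rw [← C_1]; exact natDegree_X_pow_add_C
  · exact ⟨X + 1, by ring⟩
  · simp

/-- split, degree 2 -/
theorem adm_split {s : ℕ} (hs : s.Prime) (hs2 : s ≠ 2) {ζ : F} (hζ : ζ ^ s = 1) (h1 : ζ ≠ 1) :
    Adm F 2 s := by
  have hζ0 : ζ ≠ 0 := by
    rintro rfl
    rw [zero_pow hs.ne_zero] at hζ
    exact zero_ne_one hζ
  have := Fact.mk hs
  have hord : orderOf ζ = s := orderOf_eq_prime hζ h1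
  have hinv1 : ζ⁻¹ ≠ 1 := fun h => h1 (inv_eq_one.mp h)
  have hne : ζ ≠ ζ⁻¹ := by
    intro h
    have h2 : ζ ^ 2 = 1 := by
      rw [pow_two]; nth_rewrite 2 [h]; exact mul_inv_cancel₀ hζ0
    have h3 := orderOf_dvd_of_pow_eq_one h2
    rw [hord] at h3
    exact hs2 ((Nat.prime_dvd_prime_iff_eq hs Nat.prime_two).mp h3)
  have hroot : ∀ z : F, z ^ s = 1 → (X - C z) ∣ (X ^ s - 1 : F[X]) := by
    intro z hz
    rw [dvd_iff_isRoot]
    simp [hz]
  refine ⟨(X - C ζ) * (X - C ζ⁻¹), (monic_X_sub_C _).mul (monic_X_sub_C _), ?_, ?_, ?_⟩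
  · rw [(monic_X_sub_C ζ).natDegree_mul (monic_X_sub_C _), natDegree_X_sub_C, natDegree_X_sub_C]
  · have hcop : ∀ a b : F, a ≠ b → IsCoprime (X - C a : F[X]) (X - C b) := fun a b hab =>
      isCoprime_X_sub_C_of_isUnit_sub (sub_ne_zero.mpr hab).isUnit
    apply IsCoprime.mul_dvd
    · rw [← C_1]
      exact IsCoprime.mul_right (hcop _ _ h1.symm) (hcop _ _ hinv1.symm)
    · rw [← C_1]; simpa using hroot 1 (one_pow s)
    · exact IsCoprime.mul_dvd (hcop _ _ hne) (hroot ζ hζ) (hroot ζ⁻¹ (by rw [inv_pow, hζ, inv_one]))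
  · rw [mul_coeff_zero]
    simp [hζ0]

/-- the row from admissible exponents -/
theorem all_psl {k s t N : ℕ} (hs : Adm F (k + 2) s) (ht : Adm F (k + 1) t) (hsN : s.Coprime N)
    (htN : t.Coprime N) : All N (ProjectiveSpecialLinearGroup (Fin (k + 2)) F) := by
  intro g
  obtain ⟨x, y, hg, hx, hy⟩ := psl_mul hs ht g
  exact ⟨x, y, hg, Nat.Coprime.of_dvd_left (orderOf_dvd_of_pow_eq_one hx) hsN,
    Nat.Coprime.of_dvd_left (orderOf_dvd_of_pow_eq_one hy) htN⟩

/-- `N` prime to the characteristic -/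
theorem all_psl_unip {k r N : ℕ} [hr : Fact r.Prime] [CharP F r] (hrN : r.Coprime N) :
    All N (ProjectiveSpecialLinearGroup (Fin (k + 2)) F) := by
  have h1 : k + 3 ≤ r ^ (k + 3) := (Nat.lt_pow_self hr.out.one_lt).le
  exact all_psl (adm_unip (j := k + 3) h1) (adm_unip (j := k + 3) (by omega))
    (hrN.pow_left _) (hrN.pow_left _)

theorem coprime_six {s : ℕ} (hs : s.Prime) (h : 5 ≤ s) : s.Coprime 6 := by
  rw [hs.coprime_iff_not_dvd]
  intro h1
  have h2 := Nat.le_of_dvd (by norm_num) h1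
  interval_cases s
  · exact absurd h1 (by norm_num)
  · exact absurd hs (by norm_num)

theorem coprime_char [Finite F] {r s : ℕ} [hr : Fact r.Prime] [CharP F r] (hs : s.Prime)
    (h : ¬ s ∣ Nat.card F) : s.Coprime r := by
  rw [Nat.coprime_primes hs hr.out]
  rintro rfl
  apply h
  have : Fintype F := Fintype.ofFinite F
  obtain ⟨e, he⟩ := FiniteField.card F s
  rw [Nat.card_eq_fintype_card, he.2]
  exact dvd_pow_self _ (PNat.ne_zero e)

/-- **`p` prime, `p ≥ 5`, `n ≥ 3`** -/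
theorem allp_psl [Finite F] {n : ℕ} (hn : 3 ≤ n) {p : ℕ} (hp : p.Prime) (h5 : 5 ≤ p) :
    All p (ProjectiveSpecialLinearGroup (Fin n) F) := by
  obtain ⟨k, rfl⟩ : ∃ k, n = k + 2 := ⟨n - 2, by omega⟩
  obtain ⟨r, hrc⟩ := CharP.exists F
  have hr : Fact r.Prime := ⟨CharP.char_is_prime F r⟩
  by_cases hpr : p = r
  · subst hpr
    obtain ⟨s, hs, hs1, -, hsq, hsa⟩ := exists_adm (F := F) (d := k + 2) (by omega)
    have hsc : s.Coprime p := coprime_char hs hsq
    by_cases hk : k = 1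
    · subst hk
      refine all_psl hsa adm_four hsc ?_
      have h4 : (4 : ℕ) = 2 ^ 2 := by norm_num
      rw [h4]
      apply Nat.Coprime.pow_left
      rw [Nat.coprime_primes Nat.prime_two hp]
      omega
    · obtain ⟨t, ht, ht1, ht5, htq, hta⟩ := exists_adm (F := F) (d := k + 1) (by omega)
      exact all_psl hsa hta hsc (coprime_char ht htq)
  · exact all_psl_unip (r := r) ((Nat.coprime_primes hr.out hp).mpr (Ne.symm hpr))

/-- **`N = 6`, `n ≥ 4`** -/
theorem all6_psl [Finite F] {n : ℕ} (hn : 4 ≤ n) :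
    All 6 (ProjectiveSpecialLinearGroup (Fin n) F) := by
  obtain ⟨k, rfl⟩ : ∃ k, n = k + 2 := ⟨n - 2, by omega⟩
  obtain ⟨s, hs, hs1, hs5, hsq, hsa⟩ := exists_adm (F := F) (d := k + 2) (by omega)
  obtain ⟨t, ht, ht1, ht5, htq, hta⟩ := exists_adm (F := F) (d := k + 1) (by omega)
  exact all_psl hsa hta (coprime_six hs hs5) (coprime_six ht ht5)

end field

/-- **`PSL_n(F)`, `n ≥ 4`.** -/
theorem pw_psl {n : ℕ} (hn : 4 ≤ n) (F : Type*) [Field F] [Finite F] :
    Pw (ProjectiveSpecialLinearGroup (Fin n) F) :=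
  ⟨all6_psl hn, fun _ hp h5 => allp_psl (by omega) hp h5⟩

/-- degree 2, order prime to 6 -/
theorem exists_adm_two {F : Type*} [Field F] [Finite F] (h2 : Nat.card F ≠ 2)
    (h3 : Nat.card F ≠ 3) {r : ℕ} [hr : Fact r.Prime] [CharP F r] (hr5 : r < 5) :
    ∃ t : ℕ, t.Coprime 6 ∧ Adm F 2 t := by
  have : Fintype F := Fintype.ofFinite F
  obtain ⟨e, he⟩ := FiniteField.card F r
  have hq : Nat.card F = r ^ (e : ℕ) := by rw [Nat.card_eq_fintype_card, he.2]
  have hr23 : r = 2 ∨ r = 3 := by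
    have h1 := hr.out
    interval_cases r
    · exact absurd h1 (by norm_num)
    · exact absurd h1 (by norm_num)
    · left; rfl
    · right; rfl
    · exact absurd h1 (by norm_num)
  have he2 : 2 ≤ (e : ℕ) := by
    by_contra h
    have h1 : (e : ℕ) = 1 := by have := e.pos; omega
    rw [h1, pow_one] at hq
    rcases hr23 with rfl | rfl
    · exact h2 hq
    · exact h3 hq
  by_cases h8 : r = 2 ∧ 2 * (e : ℕ) = 6
  · have hcard : Nat.card Fˣ = 7 := by
      rw [Nat.card_units, hq, h8.1, show (e : ℕ) = 3 by omega]; norm_num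
    have h7 : Fact (Nat.Prime 7) := ⟨by norm_num⟩
    obtain ⟨u, hu⟩ := exists_prime_orderOf_dvd_card' (G := Fˣ) 7 (by rw [hcard])
    refine ⟨7, by norm_num, adm_split (ζ := (u : F)) (by norm_num) (by norm_num) ?_ ?_⟩
    · rw [← Units.val_pow_eq_pow_val, ← hu, pow_orderOf_eq_one, Units.val_one]
    · intro h
      rw [Units.val_eq_one.mp h, orderOf_one] at hu
      omega
  · obtain ⟨t, ht, hord⟩ := Lib.Zsigmondy.exists_prime_orderOf (a := r) (n := 2 * (e : ℕ))
      hr.out.two_le (by omega) (by omega) h8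
    have htr : ¬ t ∣ r := by
      intro h
      have := Fact.mk ht
      rw [(ZMod.natCast_eq_zero_iff r t).2 h, orderOf_eq_zero] at hord
      · omega
      · rw [isOfFinOrder_iff_pow_eq_one]
        rintro ⟨n, hn, h⟩
        rw [zero_pow (by omega)] at h
        exact zero_ne_one h
    have h1 := Lib.Zsigmondy.orderOf_dvd_pred ht htr
    rw [hord] at h1
    have h4 : 2 * (e : ℕ) ≤ t - 1 := Nat.le_of_dvd (by have := ht.two_le; omega) h1
    refine ⟨t, coprime_six ht (by omega), adm_prime ht le_rfl ?_⟩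
    rw [hq, Nat.cast_pow, orderOf_pow_of_dvd (by omega) (by rw [hord]; exact dvd_mul_left _ _),
      hord, Nat.mul_div_cancel _ (by omega)]

/-- **`PSL_3(F)`, `|F| ≠ 2, 3`.** -/
theorem pw_psl_three (F : Type*) [Field F] [Finite F] (h2 : Nat.card F ≠ 2) (h3 : Nat.card F ≠ 3) :
    Pw (ProjectiveSpecialLinearGroup (Fin 3) F) := by
  refine ⟨?_, fun _ hp h5 => allp_psl le_rfl hp h5⟩
  obtain ⟨r, hrc⟩ := CharP.exists F
  have hr : Fact r.Prime := ⟨CharP.char_is_prime F r⟩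
  rcases lt_or_ge r 5 with h5 | h5
  · obtain ⟨s, hs, hs1, hs5, hsq, hsa⟩ := exists_adm (F := F) (d := 3) (by omega)
    obtain ⟨t, ht, hta⟩ := exists_adm_two h2 h3 h5
    exact all_psl (k := 1) hsa hta (coprime_six hs hs5) ht
  · exact all_psl_unip (k := 1) (r := r) (coprime_six hr.out h5)

end Cfsg.Agent.H962.PP
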