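import Cfsg.Agent.H962.PP.Main

/-!
# Cyclic matrices: conjugacy, and the conjugacy form of the product theorem

`Cyc x` : `x` has a cyclic vector.  `blk c B = diag (c, B)`.

* `conj_of_cyc` : two cyclic matrices with the same characteristic polynomial are conjugate.
* `cyc_of_row` : first row `(c, 0, …, 0)`, lower right corner `B` cyclic, `χ_B(c) ≠ 0`: cyclic.
* `exists_mul_conj` : `A = P X₀ P⁻¹ * Q diag(c, B₀) Q⁻¹`, `det Q = 1`.
* `exists_mul_conj_blk` : `A = P diag(d, C₀) P⁻¹ * Q diag(c, B₀) Q⁻¹`, `det P = det Q = 1`.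
-/

set_option autoImplicit false

namespace Cfsg.Agent.H962.PP

open Module Matrix Polynomial

variable {F : Type*} [Field F]

/-- `x` has a cyclic vector -/
def Cyc {n : ℕ} (x : Matrix (Fin n) (Fin n) F) : Prop :=
  ∃ m : Fin n → F, LinearIndependent F (fun i : Fin n => (x ^ (i : ℕ)) *ᵥ m)

theorem aeval_mulVec_eq {n N : ℕ} (x : Matrix (Fin n) (Fin n) F) (m : Fin n → F) {g : F[X]}
    (hg : g.natDegree < N) : (aeval x g) *ᵥ m = ∑ i : Fin N, g.coeff i • ((x ^ (i : ℕ)) *ᵥ m) := by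
  rw [aeval_eq_sum_range' hg, Matrix.sum_mulVec,
    Fin.sum_univ_eq_sum_range (fun i => g.coeff i • ((x ^ i) *ᵥ m)) N]
  exact Finset.sum_congr rfl fun i _ => Matrix.smul_mulVec _ _ _

/-- a polynomial killing a cyclic vector is a multiple of the characteristic polynomial -/
theorem dvd_of_kill {n : ℕ} {x : Matrix (Fin n) (Fin n) F} {m : Fin n → F}
    (hm : LinearIndependent F (fun i : Fin n => (x ^ (i : ℕ)) *ᵥ m)) {g : F[X]}
    (hg : (aeval x g) *ᵥ m = 0) : x.charpoly ∣ g := by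
  rw [← Polynomial.modByMonic_eq_zero_iff_dvd x.charpoly_monic]
  have h1 : aeval x (g %ₘ x.charpoly) = aeval x g :=
    Polynomial.aeval_modByMonic_eq_self_of_root (Matrix.aeval_self_charpoly x)
  rcases Nat.eq_zero_or_pos n with rfl | hn
  · have h2 : x.charpoly = 1 := by
      rw [← x.charpoly_monic.natDegree_eq_zero, Matrix.charpoly_natDegree_eq_dim,
        Fintype.card_fin]
    rw [h2, Polynomial.modByMonic_one]
  have hne : x.charpoly ≠ 1 := by
    intro h
    have h3 := x.charpoly_natDegree_eq_dim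
    rw [h, natDegree_one, Fintype.card_fin] at h3
    omega
  have hlt : (g %ₘ x.charpoly).natDegree < n := by
    have h3 := Polynomial.natDegree_modByMonic_lt g x.charpoly_monic hne
    rwa [x.charpoly_natDegree_eq_dim, Fintype.card_fin] at h3
  rw [← h1, aeval_mulVec_eq x m hlt] at hg
  have h4 := Fintype.linearIndependent_iff.mp hm _ hg
  ext i
  rw [coeff_zero]
  rcases Nat.lt_or_ge i n with h | h
  · exact h4 ⟨i, h⟩
  · exact coeff_eq_zero_of_natDegree_lt (by omega)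

/-- linear independence from polynomials -/
theorem li_of_poly {n N : ℕ} {x : Matrix (Fin n) (Fin n) F} {m : Fin n → F}
    (h : ∀ g : F[X], g.degree < N → (aeval x g) *ᵥ m = 0 → g = 0) :
    LinearIndependent F (fun i : Fin N => (x ^ (i : ℕ)) *ᵥ m) := by
  rw [Fintype.linearIndependent_iff]
  intro a ha i
  have hdeg : (∑ i : Fin N, C (a i) * X ^ (i : ℕ)).degree < (N : WithBot ℕ) :=
    degree_sum_fin_lt a
  have h0 : (aeval x (∑ i : Fin N, C (a i) * X ^ (i : ℕ))) *ᵥ m = 0 := by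
    rw [map_sum, Matrix.sum_mulVec, ← ha]
    refine Finset.sum_congr rfl fun j _ => ?_
    rw [map_mul, aeval_C, map_pow, aeval_X, ← Algebra.smul_def, Matrix.smul_mulVec]
  have h1 := h _ hdeg h0
  have h2 := congrArg (fun p : F[X] => p.coeff i) h1
  simp only [finsetSum_coeff, coeff_C_mul, coeff_X_pow, coeff_zero] at h2
  rw [Finset.sum_eq_single i] at h2
  · simpa using h2
  · intro j _ hj
    rw [if_neg (fun h => hj (Fin.ext h.symm)), mul_zero]
  · intro h; exact absurd (Finset.mem_univ _) h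

/-- **two cyclic matrices with the same characteristic polynomial are conjugate** -/
theorem conj_of_cyc {n : ℕ} {x x' : Matrix (Fin n) (Fin n) F} (hx : Cyc x) (hx' : Cyc x')
    (h : x.charpoly = x'.charpoly) :
    ∃ P : Matrix (Fin n) (Fin n) F, IsUnit P.det ∧ x' = P * x * P⁻¹ := by
  obtain ⟨m, hm⟩ := hx
  obtain ⟨m', hm'⟩ := hx'
  rcases Nat.eq_zero_or_pos n with rfl | hn
  · exact ⟨1, by simp, Subsingleton.elim _ _⟩
  have hnt : Nonempty (Fin n) := ⟨⟨0, hn⟩⟩
  let b : Basis (Fin n) F (Fin n → F) := basisOfLinearIndependentOfCardEqFinrank hm (by simp)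
  let b' : Basis (Fin n) F (Fin n → F) := basisOfLinearIndependentOfCardEqFinrank hm' (by simp)
  have hb : ∀ i : Fin n, b i = (x ^ (i : ℕ)) *ᵥ m := fun i => by simp [b]
  have hb' : ∀ i : Fin n, b' i = (x' ^ (i : ℕ)) *ᵥ m' := fun i => by simp [b']
  let e : (Fin n → F) ≃ₗ[F] (Fin n → F) := b.equiv b' (Equiv.refl _)
  have he : ∀ i, e (b i) = b' i := fun i => by simp [e]
  have hne : x.charpoly ≠ 1 := by
    intro h1
    have h3 := x.charpoly_natDegree_eq_dim
    rw [h1, natDegree_one, Fintype.card_fin] at h3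
    omega
  have key : ∀ g : F[X], e ((aeval x g) *ᵥ m) = (aeval x' g) *ᵥ m' := by
    intro g
    have h1 : aeval x (g %ₘ x.charpoly) = aeval x g :=
      Polynomial.aeval_modByMonic_eq_self_of_root (Matrix.aeval_self_charpoly x)
    have h2 : aeval x' (g %ₘ x.charpoly) = aeval x' g :=
      Polynomial.aeval_modByMonic_eq_self_of_root (by rw [h]; exact Matrix.aeval_self_charpoly x')
    have hlt : (g %ₘ x.charpoly).natDegree < n := by
      have h3 := Polynomial.natDegree_modByMonic_lt g x.charpoly_monic hne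
      rwa [x.charpoly_natDegree_eq_dim, Fintype.card_fin] at h3
    rw [← h1, ← h2, aeval_mulVec_eq x m hlt, aeval_mulVec_eq x' m' hlt, map_sum]
    refine Finset.sum_congr rfl fun i _ => ?_
    rw [map_smul, ← hb, ← hb', he]
  let P : Matrix (Fin n) (Fin n) F := LinearMap.toMatrix' e.toLinearMap
  have hP : ∀ v, P *ᵥ v = e v := fun v => by
    rw [← Matrix.toLin'_apply, Matrix.toLin'_toMatrix']; rfl
  have hPu : IsUnit P.det := by
    have h1 : P * LinearMap.toMatrix' e.symm.toLinearMap = 1 := by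
      rw [← LinearMap.toMatrix'_comp]; simp
    exact IsUnit.of_mul_eq_one _ (by rw [← det_mul, h1, det_one])
  refine ⟨P, hPu, ?_⟩
  have hcomm : P * x = x' * P := by
    apply Matrix.toLin'.injective
    apply b.ext
    intro i
    rw [Matrix.toLin'_mul, Matrix.toLin'_mul]
    simp only [LinearMap.comp_apply, Matrix.toLin'_apply]
    rw [hP, hP, he, hb, hb', Matrix.mulVec_mulVec, Matrix.mulVec_mulVec, ← pow_succ', ← pow_succ']
    have h1 := key (X ^ ((i : ℕ) + 1))
    rwa [map_pow, map_pow, aeval_X, aeval_X] at h1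
  rw [hcomm, mul_assoc, Matrix.mul_nonsing_inv _ hPu, mul_one]

/-- `diag (c, B)` -/
def blk {n : ℕ} (c : F) (B : Matrix (Fin n) (Fin n) F) : Matrix (Fin (n + 1)) (Fin (n + 1)) F :=
  Matrix.of fun i j => Fin.cases (Fin.cases c (fun _ => 0) j)
    (fun i' => Fin.cases 0 (fun j' => B i' j') j) i

section blk
variable {n : ℕ} (c d : F) (B D : Matrix (Fin n) (Fin n) F)

@[simp] theorem blk_zero_zero : blk c B 0 0 = c := rfl
@[simp] theorem blk_zero_succ (j : Fin n) : blk c B 0 j.succ = 0 := rfl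
@[simp] theorem blk_succ_zero (i : Fin n) : blk c B i.succ 0 = 0 := rfl
@[simp] theorem blk_succ_succ (i j : Fin n) : blk c B i.succ j.succ = B i j := rfl

theorem blk_mul : blk c B * blk d D = blk (c * d) (B * D) := by
  ext i j
  rw [Matrix.mul_apply, Fin.sum_univ_succ]
  refine Fin.cases ?_ (fun i' => ?_) i <;> refine Fin.cases ?_ (fun j' => ?_) j
  · simp
  · simp
  · simp
  · simp [Matrix.mul_apply]

theorem blk_one : blk (1 : F) (1 : Matrix (Fin n) (Fin n) F) = 1 := by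
  ext i j
  refine Fin.cases ?_ (fun i' => ?_) i <;> refine Fin.cases ?_ (fun j' => ?_) j
  · simp
  · simp [(Fin.succ_ne_zero _).symm]
  · simp [Fin.succ_ne_zero]
  · simp [Matrix.one_apply]

theorem blk_pow (k : ℕ) : (blk c B) ^ k = blk (c ^ k) (B ^ k) := by
  induction k with
  | zero => rw [pow_zero, pow_zero, pow_zero, blk_one]
  | succ k ih => rw [pow_succ, ih, blk_mul, pow_succ, pow_succ]

theorem blk_det : (blk c B).det = c * B.det := by
  rw [Matrix.det_succ_row_zero, Fin.sum_univ_succ, Finset.sum_eq_zero, add_zero]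
  · have h1 : (blk c B).submatrix Fin.succ (Fin.succAbove 0) = B := by
      ext i j; rw [Fin.succAbove_zero, submatrix_apply, blk_succ_succ]
    rw [h1]; simp
  · intro j _; simp

theorem blk_charpoly : (blk c B).charpoly = (X - C c) * B.charpoly := by
  rw [charpoly_of_row _ (blk_zero_succ c B)]
  rfl

end blk

/-- first row `(c, 0, …, 0)`: cyclic -/
theorem cyc_of_row {n : ℕ} {y : Matrix (Fin (n + 1)) (Fin (n + 1)) F}
    (h0 : ∀ j : Fin n, y 0 j.succ = 0) (hB : Cyc (y.submatrix Fin.succ Fin.succ))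
    (hc : (y.submatrix Fin.succ Fin.succ).charpoly.eval (y 0 0) ≠ 0) : Cyc y := by
  obtain ⟨B, hBd⟩ : ∃ B, B = y.submatrix Fin.succ Fin.succ := ⟨_, rfl⟩
  obtain ⟨c, hcd⟩ : ∃ c, c = y 0 0 := ⟨_, rfl⟩
  rw [← hBd] at hB hc
  rw [← hcd] at hc
  obtain ⟨w, hw⟩ := hB
  have hyB : ∀ v : Fin n → F, y *ᵥ consL v = consL (B *ᵥ v) := by
    intro v
    ext i; refine Fin.cases ?_ (fun j => ?_) i
    · rw [mulVec_consL_zero, consL_zero]
      exact Finset.sum_eq_zero fun j _ => by rw [h0, zero_mul]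
    · rw [mulVec_consL_succ, consL_succ, hBd]
  -- the eigenvector
  obtain ⟨u, hu0, hu⟩ : ∃ u : Fin (n + 1) → F, u 0 = 1 ∧ y *ᵥ u = c • u := by
    have hdet : (scalar (Fin n) c - B).det ≠ 0 := by
      rwa [Matrix.eval_charpoly] at hc
    let v : Fin n → F := fun i => y i.succ 0
    let u' : Fin n → F := (scalar (Fin n) c - B)⁻¹ *ᵥ v
    have hu' : (scalar (Fin n) c - B) *ᵥ u' = v := by
      rw [Matrix.mulVec_mulVec, Matrix.mul_nonsing_inv _ hdet.isUnit, Matrix.one_mulVec]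
    refine ⟨Fin.cons 1 u', rfl, ?_⟩
    ext i
    refine Fin.cases ?_ (fun j => ?_) i
    · simp [mulVec, dotProduct, Fin.sum_univ_succ, h0, hcd]
    · have h1 := congrFun hu' j
      have h2 : (y *ᵥ (Fin.cons 1 u' : Fin (n + 1) → F)) j.succ = v j + (B *ᵥ u') j := by
        simp [mulVec, dotProduct, Fin.sum_univ_succ, v, hBd]
      rw [h2, ← h1, Matrix.sub_mulVec]
      simp [Matrix.scalar_apply]
  have hpu : ∀ g : F[X], (aeval y g) *ᵥ u = g.eval c • u := by
    intro g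
    induction g using Polynomial.induction_on' with
    | add p q hp hq => rw [map_add, Matrix.add_mulVec, hp, hq, eval_add, add_smul]
    | monomial k a =>
      rw [aeval_monomial, ← Algebra.smul_def, Matrix.smul_mulVec, eval_monomial, mul_smul]
      congr 1
      induction k with
      | zero => simp
      | succ k ih => rw [pow_succ', ← Matrix.mulVec_mulVec, ih, Matrix.mulVec_smul, hu, smul_smul,
          pow_succ]
  have hpc : ∀ (g : F[X]) (v : Fin n → F), (aeval y g) *ᵥ consL v = consL ((aeval B g) *ᵥ v) := by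
    intro g v
    induction g using Polynomial.induction_on' with
    | add p q hp hq => rw [map_add, Matrix.add_mulVec, hp, hq, map_add, Matrix.add_mulVec, map_add]
    | monomial k a =>
      rw [aeval_monomial, aeval_monomial, ← Algebra.smul_def, ← Algebra.smul_def,
        Matrix.smul_mulVec, Matrix.smul_mulVec, map_smul]
      congr 1
      induction k with
      | zero => simp
      | succ k ih => rw [pow_succ', ← Matrix.mulVec_mulVec, ih, hyB, Matrix.mulVec_mulVec,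
          ← pow_succ']
  refine ⟨consL w + u, li_of_poly ?_⟩
  intro g hg hgm
  rw [Matrix.mulVec_add, hpu, hpc] at hgm
  have hgc : g.eval c = 0 := by
    have h1 := congrFun hgm 0
    rw [Pi.add_apply, consL_zero, Pi.smul_apply, hu0] at h1
    simpa using h1
  have hgB : (aeval B g) *ᵥ w = 0 := by
    rw [hgc, zero_smul, add_zero] at hgm
    ext i
    have h1 := congrFun hgm i.succ
    rwa [consL_succ] at h1
  have hd1 : B.charpoly ∣ g := dvd_of_kill hw hgB
  have hd2 : (X - C c) ∣ g := dvd_iff_isRoot.mpr hgc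
  have hcop : IsCoprime (X - C c) B.charpoly := by
    have hirr : Irreducible (X - C c) := irreducible_X_sub_C c
    rw [hirr.coprime_iff_not_dvd, dvd_iff_isRoot]
    exact hc
  have hd := hcop.mul_dvd hd2 hd1
  by_contra hne
  have h3 := Polynomial.natDegree_le_of_dvd hd hne
  rw [(monic_X_sub_C c).natDegree_mul B.charpoly_monic, natDegree_X_sub_C,
    B.charpoly_natDegree_eq_dim, Fintype.card_fin] at h3
  have h4 : g.natDegree < n + 1 := by
    rw [degree_eq_natDegree hne] at hg; exact_mod_cast hg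
  omega

theorem cyc_blk {n : ℕ} {c : F} {B : Matrix (Fin n) (Fin n) F} (hB : Cyc B)
    (hc : B.charpoly.eval c ≠ 0) : Cyc (blk c B) :=
  cyc_of_row (blk_zero_succ c B) (by simpa using! hB) (by simpa using! hc)

/-- **Conjugacy form of the product theorem.** -/
theorem exists_mul_conj {k : ℕ} (A : Matrix (Fin (k + 2)) (Fin (k + 2)) F)
    (hA : ∀ a : F, A ≠ scalar (Fin (k + 2)) a) (X₀ : Matrix (Fin (k + 2)) (Fin (k + 2)) F)
    (hX : Cyc X₀) (hXd : X₀.det ≠ 0) (B₀ : Matrix (Fin (k + 1)) (Fin (k + 1)) F) (hB : Cyc B₀)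
    (hBd : B₀.det ≠ 0) (c : F) (hc0 : c ≠ 0) (hc : B₀.charpoly.eval c ≠ 0)
    (hdet : A.det = X₀.det * (c * B₀.det)) :
    ∃ P Q : Matrix (Fin (k + 2)) (Fin (k + 2)) F, IsUnit P.det ∧ Q.det = 1 ∧
      A = (P * X₀ * P⁻¹) * (Q * blk c B₀ * Q⁻¹) := by
  have hAd : A.det ≠ 0 := by rw [hdet]; exact mul_ne_zero hXd (mul_ne_zero hc0 hBd)
  obtain ⟨R, L, hR, hRL, hL, hL01⟩ := exists_hess A hA
  have hRR : R⁻¹ * R = 1 := Matrix.nonsing_inv_mul _ hR
  have hRR' : R * R⁻¹ = 1 := Matrix.mul_nonsing_inv _ hR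
  have hLdet : L.det = A.det := by
    have h1 : R.det * A.det = L.det * R.det := by rw [← det_mul, ← det_mul, hRL]
    rw [mul_comm L.det] at h1
    exact (mul_left_cancel₀ hR.ne_zero h1).symm
  obtain ⟨x, y, hxy, hxp, hxm, hy0, hyc, hyf, hym⟩ :=
    hess hL (by rw [hLdet]; exact hAd) hL01 X₀.charpoly_monic
      (by rw [X₀.charpoly_natDegree_eq_dim, Fintype.card_fin]) (det_ne_zero_iff.mp hXd)
      B₀.charpoly_monic (by rw [B₀.charpoly_natDegree_eq_dim, Fintype.card_fin])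
      (det_ne_zero_iff.mp hBd)
  have hdx : x.det = X₀.det := by
    rw [Matrix.det_eq_sign_charpoly_coeff, Matrix.det_eq_sign_charpoly_coeff, hxp]
  have hdy : (y.submatrix Fin.succ Fin.succ).det = B₀.det := by
    rw [Matrix.det_eq_sign_charpoly_coeff, Matrix.det_eq_sign_charpoly_coeff, hyf]
  have hdy' : y.det = y 0 0 * B₀.det := by
    have h1 : y.det = (blk (y 0 0) (y.submatrix Fin.succ Fin.succ)).det := by
      rw [Matrix.det_eq_sign_charpoly_coeff, Matrix.det_eq_sign_charpoly_coeff,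
        charpoly_of_row y hy0, blk_charpoly]
    rw [h1, blk_det, hdy]
  have hcy : y 0 0 = c := by
    have h1 : x.det * y.det = A.det := by rw [← det_mul, hxy, hLdet]
    rw [hdx, hdy', hdet] at h1
    have h2 := mul_left_cancel₀ hXd h1
    exact mul_right_cancel₀ hBd h2
  have hyCyc : Cyc y := cyc_of_row hy0 hym (by rw [hyf, hcy]; exact hc)
  obtain ⟨P, hP, hPx⟩ := conj_of_cyc hX hxm hxp.symm
  obtain ⟨Q, hQ, hQy⟩ := conj_of_cyc (cyc_blk hB hc) hyCyc (by
    rw [charpoly_of_row y hy0, blk_charpoly, hyf, hcy])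
  -- correct the determinant of `R⁻¹ Q`
  have hsplit : A = (R⁻¹ * x * R) * (R⁻¹ * y * R) := by
    have h1 : R⁻¹ * x * R * (R⁻¹ * y * R) = R⁻¹ * x * (R * R⁻¹) * y * R := by
      simp only [mul_assoc]
    rw [h1, hRR', mul_one, mul_assoc (R⁻¹), hxy, mul_assoc, ← hRL, ← mul_assoc, hRR, one_mul]
  have hPP : P * P⁻¹ = 1 := Matrix.mul_nonsing_inv _ hP
  have hRinv : IsUnit (R⁻¹).det := by
    rw [Matrix.det_nonsing_inv]; exact hR.ringInverse
  obtain ⟨t, ht⟩ : ∃ t, t = ((R⁻¹ * Q).det)⁻¹ := ⟨_, rfl⟩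
  have hQ1 : (R⁻¹ * Q).det ≠ 0 := by rw [det_mul]; exact (hRinv.mul hQ).ne_zero
  have ht0 : t ≠ 0 := by rw [ht]; exact inv_ne_zero hQ1
  refine ⟨R⁻¹ * P, R⁻¹ * Q * blk t 1, by rw [det_mul]; exact hRinv.mul hP, ?_, ?_⟩
  · rw [det_mul, blk_det, det_one, mul_one, ht, mul_inv_cancel₀ hQ1]
  · have hb1 : blk t (1 : Matrix (Fin (k + 1)) (Fin (k + 1)) F) * blk t⁻¹ 1 = 1 := by
      rw [blk_mul, mul_inv_cancel₀ ht0, mul_one, blk_one]
    have hinv : (blk t (1 : Matrix (Fin (k + 1)) (Fin (k + 1)) F))⁻¹ = blk t⁻¹ 1 :=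
      Matrix.inv_eq_right_inv hb1
    have hcomm : blk t (1 : Matrix (Fin (k + 1)) (Fin (k + 1)) F) * blk c B₀ * blk t⁻¹ 1
        = blk c B₀ := by
      rw [blk_mul, blk_mul, one_mul, mul_one, mul_comm t c, mul_assoc, mul_inv_cancel₀ ht0, mul_one]
    have hRi : R⁻¹⁻¹ = R := Matrix.nonsing_inv_nonsing_inv _ hR
    have e1 : R⁻¹ * P * X₀ * (R⁻¹ * P)⁻¹ = R⁻¹ * x * R := by
      rw [Matrix.mul_inv_rev, hRi, hPx]; simp only [mul_assoc]
    have e2 : R⁻¹ * Q * blk t 1 * blk c B₀ * (R⁻¹ * Q * blk t 1)⁻¹ = R⁻¹ * y * R := by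
      rw [Matrix.mul_inv_rev, Matrix.mul_inv_rev, hRi, hinv, hQy]
      calc R⁻¹ * Q * blk t 1 * blk c B₀ * (blk t⁻¹ 1 * (Q⁻¹ * R))
          = R⁻¹ * Q * (blk t 1 * blk c B₀ * blk t⁻¹ 1) * (Q⁻¹ * R) := by simp only [mul_assoc]
        _ = _ := by rw [hcomm]; simp only [mul_assoc]
    rw [e1, e2]
    exact hsplit

/-- both factors block diagonal: the conjugating matrices have determinant one -/
theorem exists_mul_conj_blk {k : ℕ} (A : Matrix (Fin (k + 2)) (Fin (k + 2)) F)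
    (hA : ∀ a : F, A ≠ scalar (Fin (k + 2)) a) (d : F) (C₀ : Matrix (Fin (k + 1)) (Fin (k + 1)) F)
    (hC : Cyc C₀) (hCd : C₀.det ≠ 0) (hd0 : d ≠ 0) (hd : C₀.charpoly.eval d ≠ 0)
    (c : F) (B₀ : Matrix (Fin (k + 1)) (Fin (k + 1)) F) (hB : Cyc B₀)
    (hBd : B₀.det ≠ 0) (hc0 : c ≠ 0) (hc : B₀.charpoly.eval c ≠ 0)
    (hdet : A.det = (d * C₀.det) * (c * B₀.det)) :
    ∃ P Q : Matrix (Fin (k + 2)) (Fin (k + 2)) F, P.det = 1 ∧ Q.det = 1 ∧
      A = (P * blk d C₀ * P⁻¹) * (Q * blk c B₀ * Q⁻¹) := by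
  obtain ⟨P, Q, hP, hQ, h⟩ := exists_mul_conj A hA (blk d C₀) (cyc_blk hC hd)
    (by rw [blk_det]; exact mul_ne_zero hd0 hCd) B₀ hB hBd c hc0 hc (by rw [blk_det]; exact hdet)
  have hP0 : P.det ≠ 0 := hP.ne_zero
  obtain ⟨t, ht⟩ : ∃ t, t = (P.det)⁻¹ := ⟨_, rfl⟩
  have ht0 : t ≠ 0 := by rw [ht]; exact inv_ne_zero hP0
  have hb1 : blk t (1 : Matrix (Fin (k + 1)) (Fin (k + 1)) F) * blk t⁻¹ 1 = 1 := by
    rw [blk_mul, mul_inv_cancel₀ ht0, mul_one, blk_one]
  have hinv : (blk t (1 : Matrix (Fin (k + 1)) (Fin (k + 1)) F))⁻¹ = blk t⁻¹ 1 :=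
    Matrix.inv_eq_right_inv hb1
  have hcomm : blk t (1 : Matrix (Fin (k + 1)) (Fin (k + 1)) F) * blk d C₀ * blk t⁻¹ 1
      = blk d C₀ := by
    rw [blk_mul, blk_mul, one_mul, mul_one, mul_comm t d, mul_assoc, mul_inv_cancel₀ ht0, mul_one]
  refine ⟨P * blk t 1, Q, ?_, hQ, ?_⟩
  · rw [det_mul, blk_det, det_one, mul_one, ht, mul_inv_cancel₀ hP0]
  · have e1 : P * blk t 1 * blk d C₀ * (P * blk t 1)⁻¹ = P * blk d C₀ * P⁻¹ := by
      rw [Matrix.mul_inv_rev, hinv]
      calc P * blk t 1 * blk d C₀ * (blk t⁻¹ 1 * P⁻¹)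
          = P * (blk t 1 * blk d C₀ * blk t⁻¹ 1) * P⁻¹ := by simp only [mul_assoc]
        _ = _ := by rw [hcomm]
    rw [e1]
    exact h

end Cfsg.Agent.H962.PP
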