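import Mathlib
import Cfsg.Agent.H953.Rcf

/-!
# An endomorphism has at most two cyclic blocks, or a polynomial `q` with a large kernel

* `dich`.
-/

set_option autoImplicit false

namespace Cfsg.Agent.H962.PP

open Polynomial Cfsg.Agent.H953

universe u v

variable {F : Type u} [Field F] {V : Type v} [AddCommGroup V] [Module F V] [FiniteDimensional F V]

omit [FiniteDimensional F V] in
theorem finrank_of_cyclic (T : Module.End F V) {d : ℕ} {g : Fin d → F[X]} {v : Fin d → V} (hmonic : ∀ i, (g i).Monic)
    (hspan : ∀ m : V, ∃ f : Fin d → F[X], m = ∑ i, aeval T (f i) (v i))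
    (hind : ∀ f : Fin d → F[X], ∑ i, aeval T (f i) (v i) = 0 ↔ ∀ i, g i ∣ f i) :
    Module.finrank F V = ∑ i, (g i).natDegree := by
  classical
  have hann : ∀ i (f : F[X]), aeval T f (v i) = 0 ↔ g i ∣ f := by
    intro i f
    have := hind (fun j => if j = i then f else 0)
    rw [Finset.sum_eq_single i] at this
    · simp only [if_true] at this
      rw [this]
      constructor
      · intro h; simpa using h i
      · intro h j
        by_cases hj : j = i
        · subst hj; simpa using h
        · simp [hj]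
    · intro j _ hj; simp [hj]
    · intro h; exact absurd (Finset.mem_univ i) h
  let w : (Σ i : Fin d, Fin (g i).natDegree) → V := fun a => (T ^ (a.2 : ℕ)) (v a.1)
  have hw : ∀ c : (Σ i : Fin d, Fin (g i).natDegree) → F, ∑ a, c a • w a =
      ∑ i, aeval T (∑ j : Fin (g i).natDegree, C (c ⟨i, j⟩) * X ^ (j : ℕ)) (v i) := by
    intro c
    rw [Fintype.sum_sigma]
    refine Finset.sum_congr rfl fun i _ => ?_
    rw [map_sum, LinearMap.sum_apply]
    refine Finset.sum_congr rfl fun j _ => ?_
    rw [map_mul, aeval_C, map_pow, aeval_X]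
    simp [w, Algebra.algebraMap_eq_smul_one]
  have hdeg : ∀ i (c : Fin (g i).natDegree → F),
      (∑ j : Fin (g i).natDegree, C (c j) * X ^ (j : ℕ)).degree < (g i).degree := by
    intro i c
    rw [Polynomial.degree_eq_natDegree (hmonic i).ne_zero]
    exact Polynomial.degree_sum_fin_lt c
  have hli : LinearIndependent F w := by
    rw [Fintype.linearIndependent_iff]
    intro c hc
    rw [hw, hind] at hc
    rintro ⟨i, j⟩
    have h0 := Polynomial.eq_zero_of_dvd_of_degree_lt (hc i) (hdeg i fun j => c ⟨i, j⟩)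
    have h1 := congrArg (fun p => p.coeff (j : ℕ)) h0
    simp only [Polynomial.finsetSum_coeff, Polynomial.coeff_C_mul, Polynomial.coeff_X_pow, coeff_zero] at h1
    rw [Finset.sum_eq_single j] at h1
    · simpa using h1
    · intro k _ hk
      rw [if_neg, mul_zero]
      intro h; exact hk (Fin.ext h.symm)
    · intro h; exact absurd (Finset.mem_univ j) h
  have hsp : ⊤ ≤ Submodule.span F (Set.range w) := by
    intro m _
    obtain ⟨f, hf⟩ := hspan m
    rw [hf]
    refine Submodule.sum_mem _ fun i _ => ?_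
    have e1 : aeval T (f i) (v i) = aeval T (f i %ₘ g i) (v i) := by
      conv_lhs => rw [← Polynomial.modByMonic_add_div (f i) (g i)]
      rw [map_add, mul_comm (g i), map_mul, LinearMap.add_apply]
      rw [Module.End.mul_apply, (hann i (g i)).mpr dvd_rfl, map_zero, add_zero]
    rw [e1]
    have hlt : (f i %ₘ g i).natDegree < (g i).natDegree ∨ f i %ₘ g i = 0 := by
      by_cases h : f i %ₘ g i = 0
      · exact Or.inr h
      · exact Or.inl (Polynomial.natDegree_lt_natDegree h (Polynomial.degree_modByMonic_lt _ (hmonic i)))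
    rcases hlt with hlt | h0
    · rw [Polynomial.aeval_eq_sum_range' hlt, LinearMap.sum_apply]
      refine Submodule.sum_mem _ fun j hj => ?_
      rw [LinearMap.smul_apply]
      refine Submodule.smul_mem _ _ (Submodule.subset_span ⟨⟨i, ⟨j, Finset.mem_range.mp hj⟩⟩, rfl⟩)
    · rw [h0, map_zero, LinearMap.zero_apply]; exact zero_mem _
  rw [Module.finrank_eq_card_basis (Module.Basis.mk hli hsp), Fintype.card_sigma]
  simp

/-- **two blocks** -/
theorem two_blocks (T : Module.End F V) {v1 v2 : V} {g1 g2 : F[X]} (h1 : g1.Monic) (h2 : g2.Monic)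
    (hV : Module.finrank F V = g1.natDegree + g2.natDegree)
    (hind : ∀ f1 f2 : F[X], aeval T f1 v1 + aeval T f2 v2 = 0 ↔ g1 ∣ f1 ∧ g2 ∣ f2) :
    (⊤ ≤ Submodule.span F (Set.range (fun i : Fin g1.natDegree => (T ^ (i : ℕ)) v1) ∪
      Set.range fun i : Fin g2.natDegree => (T ^ (i : ℕ)) v2)) ∧ aeval T g1 v1 = 0 ∧ aeval T g2 v2 = 0 ∧
    LinearMap.det T = (-1) ^ (g1.natDegree + g2.natDegree) * (g1.coeff 0 * g2.coeff 0) := by
  classical
  have ha1 : aeval T g1 v1 = 0 := by
    have := (hind g1 0).2 ⟨dvd_rfl, dvd_zero _⟩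
    simpa using this
  have ha2 : aeval T g2 v2 = 0 := by
    have := (hind 0 g2).2 ⟨dvd_zero _, dvd_rfl⟩
    simpa using this
  let g : Fin 2 → F[X] := ![g1, g2]
  let v : Fin 2 → V := ![v1, v2]
  have hmonic : ∀ i, (g i).Monic := by
    intro i; fin_cases i
    · exact h1
    · exact h2
  let w : (Σ i : Fin 2, Fin (g i).natDegree) → V := fun a => (T ^ (a.2 : ℕ)) (v a.1)
  have hw : ∀ c : (Σ i : Fin 2, Fin (g i).natDegree) → F, ∑ a, c a • w a =
      ∑ i, aeval T (∑ j : Fin (g i).natDegree, C (c ⟨i, j⟩) * X ^ (j : ℕ)) (v i) := by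
    intro c
    rw [Fintype.sum_sigma]
    refine Finset.sum_congr rfl fun i _ => ?_
    rw [map_sum, LinearMap.sum_apply]
    refine Finset.sum_congr rfl fun j _ => ?_
    rw [map_mul, aeval_C, map_pow, aeval_X]
    simp [w, Algebra.algebraMap_eq_smul_one]
  have hdeg : ∀ i (c : Fin (g i).natDegree → F),
      (∑ j : Fin (g i).natDegree, C (c j) * X ^ (j : ℕ)).degree < (g i).degree := by
    intro i c
    rw [Polynomial.degree_eq_natDegree (hmonic i).ne_zero]
    exact Polynomial.degree_sum_fin_lt c
  have hli : LinearIndependent F w := by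
    rw [Fintype.linearIndependent_iff]
    intro c hc
    rw [hw, Fin.sum_univ_two] at hc
    have hc2 := (hind _ _).1 hc
    have hc3 : ∀ i, g i ∣ ∑ j : Fin (g i).natDegree, C (c ⟨i, j⟩) * X ^ (j : ℕ) := by
      intro i; fin_cases i
      · exact hc2.1
      · exact hc2.2
    rintro ⟨i, j⟩
    have h0 := Polynomial.eq_zero_of_dvd_of_degree_lt (hc3 i) (hdeg i fun j => c ⟨i, j⟩)
    have h1 := congrArg (fun p => p.coeff (j : ℕ)) h0
    simp only [Polynomial.finsetSum_coeff, Polynomial.coeff_C_mul, Polynomial.coeff_X_pow, coeff_zero] at h1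
    rw [Finset.sum_eq_single j] at h1
    · simpa using h1
    · intro k _ hk
      rw [if_neg, mul_zero]
      intro h; exact hk (Fin.ext h.symm)
    · intro h; exact absurd (Finset.mem_univ j) h
  have hcard : Fintype.card (Σ i : Fin 2, Fin (g i).natDegree) = Module.finrank F V := by
    rw [Fintype.card_sigma, Fin.sum_univ_two, hV, Fintype.card_fin, Fintype.card_fin]
    rfl
  have hsp : ⊤ ≤ Submodule.span F (Set.range w) := (hli.span_eq_top_of_card_eq_finrank' hcard).ge
  let b := Module.Basis.mk hli hsp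
  have hb : ∀ i j, b ⟨i, j⟩ = (T ^ (j : ℕ)) (v i) := by
    intro i j
    rw [Module.Basis.mk_apply]
  refine ⟨?_, ha1, ha2, ?_⟩
  · refine hsp.trans (Submodule.span_mono ?_)
    rintro _ ⟨⟨i, j⟩, rfl⟩
    fin_cases i
    · exact Or.inl ⟨j, rfl⟩
    · exact Or.inr ⟨j, rfl⟩
  · rw [← LinearMap.det_toMatrix b, toMatrix_basis T b hmonic hb (by
      intro i; fin_cases i
      · exact ha1
      · exact ha2), det_blockDiagonal', Fin.prod_univ_two, det_comp (hmonic 0), det_comp (hmonic 1)]
    change (-1) ^ g1.natDegree * g1.coeff 0 * ((-1) ^ g2.natDegree * g2.coeff 0) = _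
    rw [pow_add]
    ring

theorem three_le_ker (T : Module.End F V) {d : ℕ} {g : Fin d → F[X]} {v : Fin d → V}
    (hind : ∀ f : Fin d → F[X], ∑ i, aeval T (f i) (v i) = 0 ↔ ∀ i, g i ∣ f i) {c : F} {e : Fin 3 → ℕ}
    {t : Fin 3 → Fin d} (ht : Function.Injective t) (hg : ∀ k, g (t k) = (X - C c) ^ (e k + 1)) :
    3 ≤ Module.finrank F (LinearMap.ker (T - c • (1 : Module.End F V))) := by
  classical
  have hlin : ∀ f : Fin 3 → F[X], ∑ k, aeval T (f k) (v (t k)) = 0 → ∀ k, g (t k) ∣ f k := by
    intro f hf k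
    let f' : Fin d → F[X] := fun i => ∑ k, if t k = i then f k else 0
    have hf' : ∀ k, f' (t k) = f k := by
      intro k
      simp only [f']
      rw [Finset.sum_eq_single k]
      · simp
      · intro l _ hl
        rw [if_neg fun h => hl (ht h)]
      · intro h; exact absurd (Finset.mem_univ k) h
    have h1 : ∑ i, aeval T (f' i) (v i) = 0 := by
      rw [← hf]
      simp only [f', map_sum, LinearMap.sum_apply]
      rw [Finset.sum_comm]
      refine Finset.sum_congr rfl fun k _ => ?_
      rw [Finset.sum_eq_single (t k)]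
      · simp
      · intro i _ hi
        rw [if_neg fun h => hi h.symm, map_zero, LinearMap.zero_apply]
      · intro h; exact absurd (Finset.mem_univ _) h
    have h2 := (hind f').1 h1 (t k)
    rwa [hf'] at h2
  have hann : ∀ k, aeval T (g (t k)) (v (t k)) = 0 := by
    intro k
    have := (hind (fun j => if j = t k then g (t k) else 0)).2 (by
      intro i
      by_cases hi : i = t k
      · rw [if_pos hi, hi]
      · rw [if_neg hi]; exact dvd_zero _)
    rw [Finset.sum_eq_single (t k)] at this
    · simpa using this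
    · intro i _ hi; rw [if_neg hi, map_zero, LinearMap.zero_apply]
    · intro h; exact absurd (Finset.mem_univ _) h
  have hmem : ∀ k, aeval T ((X - C c) ^ e k) (v (t k)) ∈ LinearMap.ker (T - c • (1 : Module.End F V)) := by
    intro k
    rw [LinearMap.mem_ker]
    have h1 : (T - c • (1 : Module.End F V)) = aeval T (X - C c) := by
      rw [map_sub, aeval_X, aeval_C, Algebra.algebraMap_eq_smul_one]
    rw [h1, ← Module.End.mul_apply, ← map_mul, ← pow_succ', ← hg]
    exact hann k
  have hli : LinearIndependent F (fun k => (⟨_, hmem k⟩ : LinearMap.ker (T - c • (1 : Module.End F V)))) := by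
    rw [Fintype.linearIndependent_iff]
    intro a ha
    have h1 : ∑ k, aeval T (C (a k) * (X - C c) ^ e k) (v (t k)) = 0 := by
      have h2 := congrArg Subtype.val ha
      rw [AddSubmonoidClass.coe_finsetSum] at h2
      rw [show ((0 : LinearMap.ker (T - c • (1 : Module.End F V))) : V) = 0 from rfl] at h2
      rw [← h2]
      refine Finset.sum_congr rfl fun k _ => ?_
      rw [map_mul, aeval_C, Module.End.mul_apply, Algebra.algebraMap_eq_smul_one]
      rfl
    intro k
    have h3 := hlin _ h1 k
    rw [hg, pow_succ', mul_comm (C (a k))] at h3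
    rw [mul_comm (X - C c)] at h3
    have h4 := (mul_dvd_mul_iff_left (pow_ne_zero _ (X_sub_C_ne_zero c))).1 h3
    by_contra h5
    have h6 := natDegree_le_of_dvd h4 (C_ne_zero.2 h5)
    rw [natDegree_X_sub_C, natDegree_C] at h6
    omega
  have := hli.fintype_card_le_finrank
  rwa [Fintype.card_fin] at this

/-- **the dichotomy** -/
theorem dich (T : Module.End F V) :
    (∃ q : F[X], q.Monic ∧ Irreducible q ∧ 3 * q.natDegree ≤ Module.finrank F V ∧
      ∀ c, q = X - C c → 3 ≤ Module.finrank F (LinearMap.ker (T - c • (1 : Module.End F V)))) ∨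
    ∃ (v1 v2 : V) (g1 g2 : F[X]), g1.Monic ∧ g2.Monic ∧ g1.natDegree ≤ g2.natDegree ∧
      g1.natDegree + g2.natDegree = Module.finrank F V ∧
      (⊤ ≤ Submodule.span F (Set.range (fun i : Fin g1.natDegree => (T ^ (i : ℕ)) v1) ∪
        Set.range fun i : Fin g2.natDegree => (T ^ (i : ℕ)) v2)) ∧ aeval T g1 v1 = 0 ∧ aeval T g2 v2 = 0 ∧
      LinearMap.det T = (-1) ^ (g1.natDegree + g2.natDegree) * (g1.coeff 0 * g2.coeff 0) := by
  classical
  obtain ⟨d, g, v, hg, hspan, hind⟩ := exists_cyclic T
  have hmonic : ∀ i, (g i).Monic := by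
    intro i
    obtain ⟨q, e, hq, -, -, h⟩ := hg i
    rw [h]; exact hq.pow e
  have hfin := finrank_of_cyclic T hmonic hspan hind
  choose q e hq hirr he hge using hg
  by_cases h3 : ∃ t : Fin 3 → Fin d, Function.Injective t ∧ q (t 0) = q (t 1) ∧ q (t 0) = q (t 2)
  · left
    obtain ⟨t, ht, ht1, ht2⟩ := h3
    have hqt : ∀ k, q (t k) = q (t 0) := by
      intro k; fin_cases k
      · rfl
      · exact ht1.symm
      · exact ht2.symm
    refine ⟨q (t 0), hq _, hirr _, ?_, ?_⟩
    · rw [hfin]
      have h1 : ∑ k, (g (t k)).natDegree ≤ ∑ i, (g i).natDegree := by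
        rw [← Finset.sum_image (f := fun i => (g i).natDegree) (s := Finset.univ) (g := t) (fun a _ b _ h => ht h)]
        exact Finset.sum_le_sum_of_subset (Finset.subset_univ _)
      refine le_trans ?_ h1
      rw [show 3 * (q (t 0)).natDegree = ∑ _k : Fin 3, (q (t 0)).natDegree by simp]
      refine Finset.sum_le_sum fun k _ => ?_
      rw [hge, natDegree_pow, ← hqt k]
      exact Nat.le_mul_of_pos_left _ (he _)
    · intro c hc
      refine three_le_ker T hind (e := fun k => e (t k) - 1) ht fun k => ?_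
      rw [hge, hqt, hc, Nat.sub_add_cancel (he _)]
  · right
    let A : Finset (Fin d) := Finset.univ.filter fun i => ∀ j < i, q j ≠ q i
    let B : Finset (Fin d) := Finset.univ.filter fun i => ¬ ∀ j < i, q j ≠ q i
    have hcop : ∀ i j, q i ≠ q j → IsCoprime (g i) (g j) := by
      intro i j hij
      rw [hge, hge]
      refine IsCoprime.pow ?_
      refine ((hirr i).coprime_iff_not_dvd).2 fun hd => hij ?_
      exact eq_of_monic_of_associated (hq i) (hq j) ((hirr i).associated_of_dvd (hirr j) hd)
    have hA : ∀ i ∈ A, ∀ j ∈ A, i ≠ j → q i ≠ q j := by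
      intro i hi j hj hij
      rcases lt_or_gt_of_ne hij with h | h
      · exact (Finset.mem_filter.1 hj).2 i h
      · exact ((Finset.mem_filter.1 hi).2 j h).symm
    have hB' : ∀ i ∈ B, ∀ j ∈ B, i < j → q i ≠ q j := by
      intro i hi j hj hij h
      apply h3
      have h4 := (Finset.mem_filter.1 hi).2
      push Not at h4
      obtain ⟨k, hk, hk2⟩ := h4
      refine ⟨![k, i, j], ?_, ?_, ?_⟩
      · intro a b hab
        have hki : k ≠ i := hk.ne
        have hkj : k ≠ j := (hk.trans hij).ne
        have hij' : i ≠ j := hij.ne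
        fin_cases a <;> fin_cases b <;> simp_all
      · exact hk2
      · exact hk2.trans h
    have hB : ∀ i ∈ B, ∀ j ∈ B, i ≠ j → q i ≠ q j := by
      intro i hi j hj hij
      rcases lt_or_gt_of_ne hij with h | h
      · exact hB' i hi j hj h
      · exact (hB' j hj i hi h).symm
    have hsplit : ∀ f1 f2 : F[X], aeval T f1 (∑ i ∈ A, v i) + aeval T f2 (∑ i ∈ B, v i) =
        ∑ i, aeval T (if i ∈ A then f1 else f2) (v i) := by
      intro f1 f2
      rw [map_sum, map_sum, ← Finset.sum_filter_add_sum_filter_not Finset.univ (fun i => ∀ j < i, q j ≠ q i)]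
      congr 1
      · refine Finset.sum_congr rfl fun i hi => ?_
        rw [if_pos hi]
      · refine Finset.sum_congr rfl fun i hi => ?_
        rw [if_neg fun h => (Finset.mem_filter.1 hi).2 (Finset.mem_filter.1 h).2]
    have hind2 : ∀ f1 f2 : F[X], aeval T f1 (∑ i ∈ A, v i) + aeval T f2 (∑ i ∈ B, v i) = 0 ↔
        (∏ i ∈ A, g i) ∣ f1 ∧ (∏ i ∈ B, g i) ∣ f2 := by
      intro f1 f2
      rw [hsplit, hind]
      constructor
      · intro h
        constructor
        · refine Finset.prod_dvd_of_coprime (fun i hi j hj hij => hcop i j (hA i hi j hj hij)) fun i hi => ?_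
          have := h i
          rwa [if_pos hi] at this
        · refine Finset.prod_dvd_of_coprime (fun i hi j hj hij => hcop i j (hB i hi j hj hij)) fun i hi => ?_
          have := h i
          rwa [if_neg fun h => (Finset.mem_filter.1 hi).2 (Finset.mem_filter.1 h).2] at this
      · rintro ⟨h1, h2⟩ i
        by_cases hi : i ∈ A
        · rw [if_pos hi]
          exact (Finset.dvd_prod_of_mem g hi).trans h1
        · rw [if_neg hi]
          refine (Finset.dvd_prod_of_mem g ?_).trans h2
          exact Finset.mem_filter.2 ⟨Finset.mem_univ i, fun h => hi (Finset.mem_filter.2 ⟨Finset.mem_univ i, h⟩)⟩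
    have hmA : (∏ i ∈ A, g i).Monic := monic_prod_of_monic _ _ fun i _ => hmonic i
    have hmB : (∏ i ∈ B, g i).Monic := monic_prod_of_monic _ _ fun i _ => hmonic i
    have hsum : Module.finrank F V = (∏ i ∈ A, g i).natDegree + (∏ i ∈ B, g i).natDegree := by
      rw [natDegree_prod_of_monic _ _ fun i _ => hmonic i, natDegree_prod_of_monic _ _ fun i _ => hmonic i, hfin]
      exact (Finset.sum_filter_add_sum_filter_not Finset.univ (fun i => ∀ j < i, q j ≠ q i) _).symm
    rcases le_total (∏ i ∈ A, g i).natDegree (∏ i ∈ B, g i).natDegree with hle | hle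
    · obtain ⟨k1, k2, k3, k4⟩ := two_blocks T hmA hmB hsum hind2
      exact ⟨_, _, _, _, hmA, hmB, hle, hsum.symm, k1, k2, k3, k4⟩
    · have hind3 : ∀ f1 f2 : F[X], aeval T f1 (∑ i ∈ B, v i) + aeval T f2 (∑ i ∈ A, v i) = 0 ↔
        (∏ i ∈ B, g i) ∣ f1 ∧ (∏ i ∈ A, g i) ∣ f2 := by
        intro f1 f2
        rw [add_comm, hind2, and_comm]
      obtain ⟨k1, k2, k3, k4⟩ := two_blocks T hmB hmA (hsum.trans (add_comm _ _)) hind3
      exact ⟨_, _, _, _, hmB, hmA, hle, (hsum.trans (add_comm _ _)).symm, k1, k2, k3, k4⟩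

end Cfsg.Agent.H962.PP
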