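import Mathlib

/-!
# Irreducible quintics

* `irr_five` : a quintic dividing `X ^ r - 1`, `r` prime to `q² - 1`, without the root 1, is irreducible;
* `irr_scale`, `irr_reverse`;
* `quint_four`, `quint_nine` : `f`, `g` irreducible, `f_4 = 0`, `f_0 g_0 = L ^ 5`, `f_0 g(1) = L ^ 5 v`.
-/

set_option autoImplicit false

namespace Cfsg.Agent.H962.PP

open Polynomial

universe u

variable {F : Type u} [Field F]

theorem irr_five [Finite F] {f : F[X]} (hf : f.Monic) (hd : f.natDegree = 5) {r : ℕ}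
    (hr : r.Coprime (Nat.card F ^ 2 - 1)) (hr0 : r ≠ 0) (hdv : f ∣ X ^ r - 1) (h1 : f.eval 1 ≠ 0) : Irreducible f := by
  classical
  rw [hf.irreducible_iff_lt_natDegree_lt (by rintro rfl; rw [natDegree_one] at hd; norm_num at hd)]
  intro q hq hqd hqf
  rw [Finset.mem_Ioc, hd] at hqd
  obtain ⟨h, hh, hhq⟩ := exists_irreducible_of_natDegree_pos hqd.1
  have hh2 : h.natDegree ≤ 2 := (natDegree_le_of_dvd hhq hq.ne_zero).trans (by omega)
  have hh1 : 0 < h.natDegree := hh.natDegree_pos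
  have : Fact (Irreducible h) := ⟨hh⟩
  have : Module.Finite F (AdjoinRoot h) := (AdjoinRoot.powerBasis hh.ne_zero).finite
  have : Finite (AdjoinRoot h) := Module.finite_of_finite F
  let _ : Fintype (AdjoinRoot h) := Fintype.ofFinite _
  have hcard : Fintype.card (AdjoinRoot h) = Nat.card F ^ h.natDegree := by
    rw [← Nat.card_eq_fintype_card, Module.natCard_eq_pow_finrank (K := F), (AdjoinRoot.powerBasis hh.ne_zero).finrank]
    rfl
  obtain ⟨θ, hθ⟩ : ∃ θ, θ = AdjoinRoot.root h := ⟨_, rfl⟩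
  have hθ0 : aeval θ h = 0 := by rw [hθ, AdjoinRoot.aeval_eq, AdjoinRoot.mk_self]
  have hθr : θ ^ r = 1 := by
    obtain ⟨k, hk⟩ := (hhq.trans hqf).trans hdv
    have := congrArg (aeval θ) hk
    rw [map_mul, hθ0, zero_mul, map_sub, map_pow, aeval_X, map_one, sub_eq_zero] at this
    exact this
  have hθn : θ ≠ 0 := by
    rintro rfl
    rw [zero_pow hr0] at hθr
    exact zero_ne_one hθr
  have hθq : θ ^ (Nat.card F ^ 2 - 1) = 1 := by
    have h2 := FiniteField.pow_card_sub_one_eq_one θ hθn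
    rw [hcard] at h2
    have h3 : Nat.card F ^ h.natDegree - 1 ∣ Nat.card F ^ 2 - 1 := by
      rcases (show h.natDegree = 1 ∨ h.natDegree = 2 by omega) with h3 | h3
      · rw [h3]
        exact Nat.pow_sub_one_dvd_pow_sub_one _ (by norm_num)
      · rw [h3]
    obtain ⟨k, hk⟩ := h3
    rw [hk, pow_mul, h2, one_pow]
  have hθ1 : θ = 1 := by
    have h2 := Nat.dvd_gcd (orderOf_dvd_of_pow_eq_one hθr) (orderOf_dvd_of_pow_eq_one hθq)
    rw [hr.gcd_eq_one, Nat.dvd_one, orderOf_eq_one_iff] at h2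
    exact h2
  rw [hθ1] at hθ0
  have h4 : h.eval 1 = 0 := by
    have h5 : aeval (1 : AdjoinRoot h) h = algebraMap F (AdjoinRoot h) (h.eval 1) := by
      rw [← map_one (algebraMap F (AdjoinRoot h)), aeval_algebraMap_apply, coe_aeval_eq_eval]
    rw [h5] at hθ0
    exact (map_eq_zero _).1 hθ0
  obtain ⟨k, hk⟩ := hhq.trans hqf
  apply h1
  rw [hk, eval_mul, h4, zero_mul]

/-- scaling of the roots -/
noncomputable def scl (c : F) (f : F[X]) : F[X] := C (c ^ f.natDegree) * f.comp (C c⁻¹ * X)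

theorem comp_scale_natDegree {c : F} (hc : c ≠ 0) (f : F[X]) : (f.comp (C c⁻¹ * X)).natDegree = f.natDegree := by
  rw [natDegree_comp, natDegree_C_mul_X _ (inv_ne_zero hc), mul_one]

theorem scl_coeff {c : F} (hc : c ≠ 0) (f : F[X]) {i : ℕ} (hi : i ≤ f.natDegree) :
    (scl c f).coeff i = c ^ (f.natDegree - i) * f.coeff i := by
  rw [scl, coeff_C_mul, comp_C_mul_X_coeff, inv_pow]
  obtain ⟨k, hk⟩ := Nat.exists_eq_add_of_le hi
  rw [hk, Nat.add_sub_cancel_left, pow_add]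
  have h1 : c ^ i ≠ 0 := pow_ne_zero _ hc
  field_simp

theorem scl_natDegree {c : F} (hc : c ≠ 0) (f : F[X]) : (scl c f).natDegree = f.natDegree := by
  rw [scl, natDegree_C_mul (pow_ne_zero _ hc), comp_scale_natDegree hc]

theorem scl_monic {c : F} (hc : c ≠ 0) {f : F[X]} (hf : f.Monic) : (scl c f).Monic := by
  rw [Monic, leadingCoeff, scl_natDegree hc, scl_coeff hc f le_rfl, Nat.sub_self, pow_zero, one_mul, hf.coeff_natDegree]

theorem scl_eval_one {c : F} (f : F[X]) : (scl c f).eval 1 = c ^ f.natDegree * f.eval c⁻¹ := by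
  rw [scl, eval_mul, eval_C, eval_comp, eval_mul, eval_C, eval_X, mul_one]

theorem scl_irr {c : F} (hc : c ≠ 0) {f : F[X]} (hf : Irreducible f) : Irreducible (scl c f) := by
  let _ : Invertible (c⁻¹) := invertibleOfNonzero (inv_ne_zero hc)
  have h1 : f.comp (C c⁻¹ * X) = algEquivCMulXAddC c⁻¹ 0 f := by
    rw [algEquivCMulXAddC_apply, map_zero, add_zero]
    rfl
  have h2 : Irreducible (f.comp (C c⁻¹ * X)) := by
    rw [h1]
    exact (MulEquiv.irreducible_iff (algEquivCMulXAddC (R := F) c⁻¹ 0)).2 hf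
  rw [scl]
  exact (irreducible_isUnit_mul (isUnit_C.2 (isUnit_iff_ne_zero.2 (pow_ne_zero _ hc)))).2 h2

theorem irr_reverse {f : F[X]} (hf : Irreducible f) (h0 : f.coeff 0 ≠ 0) : Irreducible f.reverse := by
  have hrev : ∀ g : F[X], g.coeff 0 ≠ 0 → g.reverse.natDegree = g.natDegree := by
    intro g hg
    rw [reverse_natDegree, natTrailingDegree_eq_zero_of_constantCoeff_ne_zero hg, Nat.sub_zero]
  have hrr : f.reverse.reverse = f := by
    rw [reverse, hrev f h0, reverse]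
    ext i
    rw [coeff_reflect, coeff_reflect, revAt_invol]
  refine ⟨fun hu => ?_, fun {a b} hab => ?_⟩
  · have h1 := natDegree_eq_zero_of_isUnit hu
    rw [hrev f h0] at h1
    have := hf.natDegree_pos
    omega
  · have h1 : f = a.reverse * b.reverse := by
      rw [← reverse_mul_of_domain, ← hab, hrr]
    have hab0 : a.coeff 0 * b.coeff 0 ≠ 0 := by
      rw [← mul_coeff_zero, ← hab, coeff_zero_reverse]
      exact leadingCoeff_ne_zero.2 hf.ne_zero
    have key : ∀ g : F[X], g.coeff 0 ≠ 0 → IsUnit g.reverse → IsUnit g := by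
      intro g hg hu
      have h2 := natDegree_eq_zero_of_isUnit hu
      rw [hrev g hg] at h2
      rw [eq_C_of_natDegree_eq_zero h2]
      exact isUnit_C.2 (isUnit_iff_ne_zero.2 hg)
    rcases hf.isUnit_or_isUnit h1 with h2 | h2
    · exact Or.inl (key a (left_ne_zero_of_mul hab0) h2)
    · exact Or.inr (key b (right_ne_zero_of_mul hab0) h2)

/-! ### Four elements -/

/-- the pair of polynomials -/
def Pair (F : Type u) [Field F] : Prop :=
  ∀ v L : F, v ≠ 0 → L ≠ 0 → ∃ f g : F[X], f.Monic ∧ Irreducible f ∧ f.natDegree = 5 ∧ g.Monic ∧ Irreducible g ∧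
    g.natDegree = 5 ∧ f.coeff 4 = 0 ∧ f.coeff 0 * g.coeff 0 = L ^ 5 ∧ f.coeff 0 * g.eval 1 = L ^ 5 * v

/-- the pair of polynomials for elements with many eigenvectors -/
def Pair' (F : Type u) [Field F] : Prop :=
  ∃ f g : F[X], f.Monic ∧ Irreducible f ∧ f.natDegree = 5 ∧ g.Monic ∧ Irreducible g ∧
    g.natDegree = 5 ∧ f.coeff 4 = 0 ∧ g.coeff 4 = 1 ∧ f.coeff 0 = g.coeff 0

theorem two_zero (h : Nat.card F = 4) : (2 : F) = 0 := by
  have : Finite F := Nat.finite_of_card_ne_zero (by rw [h]; norm_num)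
  have h1 : ((Nat.card F : ℕ) : F) = 0 := by
    let _ : Fintype F := Fintype.ofFinite F
    rw [Nat.card_eq_fintype_card]
    exact FiniteField.cast_card_eq_zero F
  rw [h] at h1
  have h2 : (2 : F) * 2 = 0 := by
    rw [← h1]; norm_num
  rcases mul_eq_zero.1 h2 with h3 | h3 <;> exact h3

theorem three_zero (h : Nat.card F = 9) : (3 : F) = 0 := by
  have : Finite F := Nat.finite_of_card_ne_zero (by rw [h]; norm_num)
  have h1 : ((Nat.card F : ℕ) : F) = 0 := by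
    let _ : Fintype F := Fintype.ofFinite F
    rw [Nat.card_eq_fintype_card]
    exact FiniteField.cast_card_eq_zero F
  rw [h] at h1
  have h2 : (3 : F) * 3 = 0 := by
    rw [← h1]; norm_num
  rcases mul_eq_zero.1 h2 with h3 | h3 <;> exact h3

theorem pow_card {n : ℕ} (h : Nat.card F = n + 2) {v : F} (hv : v ≠ 0) : v ^ (n + 1) = 1 := by
  have : Finite F := Nat.finite_of_card_ne_zero (by rw [h]; norm_num)
  let _ : Fintype F := Fintype.ofFinite F
  have h1 := FiniteField.pow_card_sub_one_eq_one v hv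
  rwa [← Nat.card_eq_fintype_card, h] at h1

/-- `X⁵ + a X⁴ + b X³ + c X² + d X + e` -/
noncomputable def qt (a b c d e : F) : F[X] := X ^ 5 + C a * X ^ 4 + C b * X ^ 3 + C c * X ^ 2 + C d * X + C e

theorem qt_monic (a b c d e : F) : (qt a b c d e).Monic := by
  rw [qt]; monicity!

theorem qt_natDegree (a b c d e : F) : (qt a b c d e).natDegree = 5 := by
  rw [qt]; compute_degree!

theorem qt_four (a b c d e : F) : (qt a b c d e).coeff 4 = a := by
  rw [qt]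
  simp

theorem qt_zero (a b c d e : F) : (qt a b c d e).coeff 0 = e := by
  rw [qt]
  simp

theorem qt_eval (a b c d e x : F) : (qt a b c d e).eval x = x ^ 5 + a * x ^ 4 + b * x ^ 3 + c * x ^ 2 + d * x + e := by
  rw [qt]
  simp

theorem irr_four_zero (h : Nat.card F = 4) : Irreducible (qt (0 : F) 0 1 0 1) := by
  have : Finite F := Nat.finite_of_card_ne_zero (by rw [h]; norm_num)
  have h2 : (2 : F[X]) = 0 := (map_ofNat (C : F →+* F[X]) 2).symm.trans (by rw [two_zero h, C_0])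
  refine irr_five (qt_monic ..) (qt_natDegree ..) (r := 31) (by rw [h]; decide) (by norm_num) ⟨X ^ 26 + X ^ 23 + X ^ 21 +
    X ^ 20 + X ^ 17 + X ^ 16 + X ^ 15 + X ^ 14 + X ^ 13 + X ^ 9 + X ^ 8 + X ^ 6 + X ^ 5 + X ^ 4 + X ^ 2 + 1, ?_⟩ ?_
  · rw [qt]
    simp only [C_0, C_1, zero_mul, one_mul]
    linear_combination ((-1) * X ^ 28 + (-1) * X ^ 26 + (-1) * X ^ 25 + (-1) * X ^ 23 + (-1) * X ^ 22 + (-1) * X ^ 21 +
      (-1) * X ^ 20 + (-1) * X ^ 19 + (-1) * X ^ 18 + (-1) * X ^ 17 + (-1) * X ^ 16 + (-1) * X ^ 15 + (-1) * X ^ 14 +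
      (-1) * X ^ 13 + (-1) * X ^ 11 + (-1) * X ^ 10 + (-1) * X ^ 9 + (-1) * X ^ 8 + (-1) * X ^ 7 + (-1) * X ^ 6 +
      (-1) * X ^ 5 + (-1) * X ^ 4 + (-1) * X ^ 2 + (-1) * 1) * h2
  · rw [qt_eval, show (1 : F) ^ 5 + 0 * 1 ^ 4 + 0 * 1 ^ 3 + 1 * 1 ^ 2 + 0 * 1 + 1 = 1 by
      linear_combination two_zero h]
    exact one_ne_zero

theorem irr_four_one (h : Nat.card F = 4) : Irreducible (qt (1 : F) 1 1 0 1) := by
  have : Finite F := Nat.finite_of_card_ne_zero (by rw [h]; norm_num)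
  have h2 : (2 : F[X]) = 0 := (map_ofNat (C : F →+* F[X]) 2).symm.trans (by rw [two_zero h, C_0])
  refine irr_five (qt_monic ..) (qt_natDegree ..) (r := 31) (by rw [h]; decide) (by norm_num) ⟨X ^ 26 + X ^ 25 + X ^ 22 +
    X ^ 19 + X ^ 18 + X ^ 17 + X ^ 16 + X ^ 15 + X ^ 13 + X ^ 12 + X ^ 11 + X ^ 7 + X ^ 5 + X ^ 3 + X ^ 2 + 1, ?_⟩ ?_
  · rw [qt]
    simp only [C_0, C_1, zero_mul, one_mul]
    linear_combination ((-1) * X ^ 30 + (-1) * X ^ 29 + (-1) * X ^ 28 + (-1) * X ^ 27 + (-1) * X ^ 26 + (-1) * X ^ 25 +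
      (-1) * X ^ 24 + (-1) * X ^ 23 + (-2) * X ^ 22 + (-2) * X ^ 21 + (-2) * X ^ 20 + (-2) * X ^ 19 + (-2) * X ^ 18 +
      (-2) * X ^ 17 + (-2) * X ^ 16 + (-2) * X ^ 15 + (-1) * X ^ 14 + (-1) * X ^ 13 + (-1) * X ^ 12 + (-1) * X ^ 11 +
      (-1) * X ^ 10 + (-1) * X ^ 9 + (-1) * X ^ 8 + (-2) * X ^ 7 + (-1) * X ^ 6 + (-2) * X ^ 5 + (-1) * X ^ 4 +
      (-1) * X ^ 3 + (-1) * X ^ 2 + (-1) * 1) * h2
  · rw [qt_eval, show (1 : F) ^ 5 + 1 * 1 ^ 4 + 1 * 1 ^ 3 + 1 * 1 ^ 2 + 0 * 1 + 1 = 1 by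
      linear_combination 2 * two_zero h]
    exact one_ne_zero

theorem irr_nine_zero (h : Nat.card F = 9) : Irreducible (qt (0 : F) (-1) 1 (-1) (-1)) := by
  have : Finite F := Nat.finite_of_card_ne_zero (by rw [h]; norm_num)
  have h2 : (3 : F[X]) = 0 := (map_ofNat (C : F →+* F[X]) 3).symm.trans (by rw [three_zero h, C_0])
  refine irr_five (qt_monic ..) (qt_natDegree ..) (r := 11) (by rw [h]; decide) (by norm_num) ⟨X ^ 6 + X ^ 4 +
    (-1) * X ^ 3 + (-1) * X ^ 2 + (-1) * X + 1, ?_⟩ ?_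
  · rw [qt]
    simp only [C_0, C_1, C_neg, zero_mul, one_mul]
    linear_combination (X ^ 7 + (-1) * X ^ 2) * h2
  · rw [qt_eval, show (1 : F) ^ 5 + 0 * 1 ^ 4 + (-1) * 1 ^ 3 + 1 * 1 ^ 2 + (-1) * 1 + -1 = -1 by ring]
    exact neg_ne_zero.2 one_ne_zero

theorem irr_nine_one (h : Nat.card F = 9) : Irreducible (qt (1 : F) (-1) 1 0 (-1)) := by
  have : Finite F := Nat.finite_of_card_ne_zero (by rw [h]; norm_num)
  have h2 : (3 : F[X]) = 0 := (map_ofNat (C : F →+* F[X]) 3).symm.trans (by rw [three_zero h, C_0])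
  refine irr_five (qt_monic ..) (qt_natDegree ..) (r := 11) (by rw [h]; decide) (by norm_num) ⟨X ^ 6 + (-1) * X ^ 5 +
    (-1) * X ^ 4 + (-1) * X ^ 3 + X ^ 2 + 1, ?_⟩ ?_
  · rw [qt]
    simp only [C_0, C_1, C_neg, zero_mul, one_mul]
    linear_combination (X ^ 9 + (-1) * X ^ 4) * h2
  · rw [qt_eval, show (1 : F) ^ 5 + 1 * 1 ^ 4 + (-1) * 1 ^ 3 + 1 * 1 ^ 2 + 0 * 1 + -1 = 1 by ring]
    exact one_ne_zero

/-- the pair from two polynomials `f1` (`X⁴`-coefficient 0) and `g1` with `g1(κ) = f1(0) v` -/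
theorem pair_of {s v L κ : F} {f1 g1 : F[X]} (hf : f1.Monic) (hfi : Irreducible f1) (hfd : f1.natDegree = 5)
    (hg : g1.Monic) (hgi : Irreducible g1) (hgd : g1.natDegree = 5) (h4 : f1.coeff 4 = 0) (hf0 : f1.coeff 0 = s)
    (hg0 : g1.coeff 0 = s) (hs : s * s = 1) (hL : L ≠ 0) (hκ : κ ≠ 0) (hv : s * g1.eval κ = v) :
    ∃ f g : F[X], f.Monic ∧ Irreducible f ∧ f.natDegree = 5 ∧ g.Monic ∧ Irreducible g ∧
      g.natDegree = 5 ∧ f.coeff 4 = 0 ∧ f.coeff 0 * g.coeff 0 = L ^ 5 ∧ f.coeff 0 * g.eval 1 = L ^ 5 * v := by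
  have hc : L * κ ≠ 0 := mul_ne_zero hL hκ
  have he : κ⁻¹ ≠ 0 := inv_ne_zero hκ
  refine ⟨scl (L * κ) f1, scl κ⁻¹ g1, scl_monic hc hf, scl_irr hc hfi, (scl_natDegree hc _).trans hfd, scl_monic he hg,
    scl_irr he hgi, (scl_natDegree he _).trans hgd, ?_, ?_, ?_⟩
  · rw [scl_coeff hc _ (by omega), h4, mul_zero]
  · rw [scl_coeff hc _ (by omega), scl_coeff he _ (by omega), hf0, hg0, hfd, hgd]
    rw [show (L * κ) ^ (5 - 0) * s * (κ⁻¹ ^ (5 - 0) * s) = L ^ 5 * (κ * κ⁻¹) ^ 5 * (s * s) by ring, hs, mul_inv_cancel₀ hκ]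
    ring
  · rw [scl_coeff hc _ (by omega), scl_eval_one, hf0, hfd, hgd, inv_inv, ← hv]
    rw [show (L * κ) ^ (5 - 0) * s * (κ⁻¹ ^ 5 * eval κ g1) = L ^ 5 * (κ * κ⁻¹) ^ 5 * (s * eval κ g1) by ring,
      mul_inv_cancel₀ hκ]
    ring

theorem pair_four (h : Nat.card F = 4) : Pair F := by
  intro v L hv hL
  refine pair_of (s := 1) (κ := v) (qt_monic ..) (irr_four_zero h) (qt_natDegree ..) (qt_monic ..) (irr_four_one h)
    (qt_natDegree ..) (qt_four ..) (qt_zero ..) (qt_zero ..) (one_mul 1) hL hv ?_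
  rw [qt_eval]
  have h1 : v ^ 3 = 1 := pow_card (n := 2) h hv
  linear_combination (v ^ 2 + v + 1) * h1 + (v ^ 2 + 1) * two_zero h

theorem pair_four' (h : Nat.card F = 4) : Pair' F :=
  ⟨_, _, qt_monic .., irr_four_zero h, qt_natDegree .., qt_monic .., irr_four_one h, qt_natDegree .., qt_four .., qt_four ..,
    (qt_zero ..).trans (qt_zero ..).symm⟩

theorem pair_nine' (h : Nat.card F = 9) : Pair' F :=
  ⟨_, _, qt_monic .., irr_nine_zero h, qt_natDegree .., qt_monic .., irr_nine_one h, qt_natDegree .., qt_four .., qt_four ..,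
    (qt_zero ..).trans (qt_zero ..).symm⟩

theorem pair_nine (h : Nat.card F = 9) : Pair F := by
  intro v L hv hL
  have h3 := three_zero h
  have h20 : (2 : F) ≠ 0 := by
    intro h2
    exact one_ne_zero (show (1 : F) = 0 by linear_combination h3 - h2)
  obtain ⟨w, hw⟩ : ∃ w, w = -v := ⟨_, rfl⟩
  have hw0 : w ≠ 0 := by rw [hw]; exact neg_ne_zero.2 hv
  have hwv : ∀ x : F, x = w → (-1) * x = v := by
    rintro x rfl; rw [hw]; ring
  have h8 : w ^ 8 = 1 := pow_card (n := 7) h hw0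
  have hz : ∀ κ : F, κ ≠ 0 → (qt (0 : F) (-1) 1 (-1) (-1)).eval κ = w → ∃ f g : F[X], f.Monic ∧ Irreducible f ∧
      f.natDegree = 5 ∧ g.Monic ∧ Irreducible g ∧ g.natDegree = 5 ∧ f.coeff 4 = 0 ∧ f.coeff 0 * g.coeff 0 = L ^ 5 ∧
      f.coeff 0 * g.eval 1 = L ^ 5 * v := fun κ hκ hκw =>
    pair_of (s := -1) (κ := κ) (qt_monic ..) (irr_nine_zero h) (qt_natDegree ..) (qt_monic ..) (irr_nine_zero h)
      (qt_natDegree ..) (qt_four ..) (qt_zero ..) (qt_zero ..) (by norm_num) hL hκ (hwv _ hκw)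
  have ho : ∀ κ : F, κ ≠ 0 → (qt (1 : F) (-1) 1 0 (-1)).eval κ = w → ∃ f g : F[X], f.Monic ∧ Irreducible f ∧
      f.natDegree = 5 ∧ g.Monic ∧ Irreducible g ∧ g.natDegree = 5 ∧ f.coeff 4 = 0 ∧ f.coeff 0 * g.coeff 0 = L ^ 5 ∧
      f.coeff 0 * g.eval 1 = L ^ 5 * v := fun κ hκ hκw =>
    pair_of (s := -1) (κ := κ) (qt_monic ..) (irr_nine_zero h) (qt_natDegree ..) (qt_monic ..) (irr_nine_one h)
      (qt_natDegree ..) (qt_four ..) (qt_zero ..) (qt_zero ..) (by norm_num) hL hκ (hwv _ hκw)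
  have hfac : (w - 1) * ((w + 1) * ((w ^ 2 + 1) * (((w - 1) ^ 2 + 1) * ((w + 1) ^ 2 + 1)))) = 0 := by
    linear_combination h8 + (w ^ 4 - 1) * h3
  rcases mul_eq_zero.1 hfac with h1 | h1
  · refine ho 1 one_ne_zero ?_
    rw [qt_eval]
    linear_combination -h1
  rcases mul_eq_zero.1 h1 with h1 | h1
  · refine hz 1 one_ne_zero ?_
    rw [qt_eval]
    linear_combination -h1
  rcases mul_eq_zero.1 h1 with h1 | h1
  · refine ho (w - 1) ?_ ?_
    · intro h4
      exact h20 (by linear_combination h1 - (w + 1) * h4)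
    · rw [qt_eval]
      linear_combination (4 + 4 * w - 4 * w ^ 2 + w ^ 3) * h1 + (-1 - 3 * w) * h3
  rcases mul_eq_zero.1 h1 with h1 | h1
  · refine hz (w - 1) ?_ ?_
    · intro h4
      rw [h4] at h1
      exact one_ne_zero (by linear_combination h1)
    · rw [qt_eval]
      linear_combination (2 + w - 3 * w ^ 2 + w ^ 3) * h1 - h3
  · refine hz (w - 1) ?_ ?_
    · intro h4
      exact h20 (by linear_combination h1 - (w + 3) * h4 - h3)
    · rw [qt_eval]
      linear_combination (-34 + 21 * w - 7 * w ^ 2 + w ^ 3) * h1 + (23 + 8 * w) * h3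

end Cfsg.Agent.H962.PP
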