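import Cfsg.Agent.H962.PP.Slice2
import Cfsg.Agent.H962.PP.Dich
import Cfsg.Agent.H962.PP.Quint
import Cfsg.Agent.H130.War.RankLe

/-!
# `SL₅(q)`, `q = 4, 9`: every nonscalar element is a product of two elements with irreducible characteristic polynomials
-/

set_option autoImplicit false

namespace Cfsg.Agent.H962.PP

open Polynomial

universe u v

variable {F : Type u} [Field F]

/-- the polynomial of `L A - 1` from the polynomial of `A` -/
noncomputable def shf (L : F) (G : F[X]) : F[X] := (scl L G).comp (X + 1)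

theorem monic_X_one : (X + 1 : F[X]).Monic := by
  rw [show (X + 1 : F[X]) = X + C 1 by rw [C_1]]; exact monic_X_add_C 1

theorem natDegree_X_one : (X + 1 : F[X]).natDegree = 1 := natDegree_eq_of_degree_eq_some degree_X_one

theorem shf_monic {L : F} (hL : L ≠ 0) {G : F[X]} (hG : G.Monic) : (shf L G).Monic :=
  (scl_monic hL hG).comp monic_X_one (by rw [natDegree_X_one]; norm_num)

theorem shf_natDegree {L : F} (hL : L ≠ 0) (G : F[X]) : (shf L G).natDegree = G.natDegree := by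
  rw [shf, natDegree_comp, natDegree_X_one, mul_one, scl_natDegree hL]

theorem shf_eval {L : F} (hL : L ≠ 0) (G : F[X]) : (shf L G).eval (-1) = L ^ G.natDegree * G.coeff 0 := by
  rw [shf, eval_comp, eval_add, eval_X, eval_one, neg_add_cancel, ← coeff_zero_eq_eval_zero,
    scl_coeff hL _ (Nat.zero_le _), Nat.sub_zero]

theorem coeff_comp_next {q : F[X]} (hq : q.Monic) {m : ℕ} (hd : q.natDegree = m + 1) :
    (q.comp (X + 1)).coeff m = (m + 1 : ℕ) + q.coeff m := by
  rw [comp, eval₂_eq_sum_range, hd, Finset.sum_range_succ, Finset.sum_range_succ, coeff_add, coeff_add, finsetSum_coeff,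
    Finset.sum_eq_zero]
  · have h1 : q.coeff (m + 1) = 1 := by rw [← hd]; exact hq.coeff_natDegree
    rw [h1, coeff_C_mul, coeff_C_mul, coeff_X_add_one_pow, coeff_X_add_one_pow, Nat.choose_self, Nat.choose_succ_self_right]
    push_cast
    ring
  · intro i hi
    rw [coeff_C_mul, coeff_X_add_one_pow, Nat.choose_eq_zero_of_lt (Finset.mem_range.1 hi), Nat.cast_zero, mul_zero]

theorem shf_coeff {L : F} (hL : L ≠ 0) {G : F[X]} (hG : G.Monic) {m : ℕ} (hd : G.natDegree = m + 1) :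
    (shf L G).coeff m = (m + 1 : ℕ) + L * G.coeff m := by
  rw [shf, coeff_comp_next (scl_monic hL hG) ((scl_natDegree hL G).trans hd), scl_coeff hL _ (by omega), hd,
    Nat.add_sub_cancel_left, pow_one]

theorem alt_sum {q : F[X]} (hq : q.Monic) {m : ℕ} (hd : q.natDegree = m + 1) :
    1 - ∑ i ∈ Finset.range (m + 1), q.coeff i * (-1) ^ (m - i) = (-1) ^ (m + 1) * q.eval (-1) := by
  rw [eval_eq_sum_range, hd, Finset.sum_range_succ (fun i => q.coeff i * (-1) ^ i) (m + 1)]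
  have h1 : q.coeff (m + 1) = 1 := by rw [← hd]; exact hq.coeff_natDegree
  rw [h1, one_mul, mul_add, ← pow_add, Finset.mul_sum, sub_eq_neg_add, ← Finset.sum_neg_distrib]
  congr 1
  · refine Finset.sum_congr rfl fun i hi => ?_
    obtain ⟨k, hk⟩ := Nat.exists_eq_add_of_le (Nat.lt_succ_iff.1 (Finset.mem_range.1 hi))
    rw [hk, Nat.add_sub_cancel_left]
    rw [show (-1 : F) ^ (i + k + 1) * (q.coeff i * (-1) ^ i) = -(q.coeff i * ((-1) ^ k * ((-1) ^ i * (-1) ^ i))) by ring,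
      ← mul_pow, show (-1 : F) * -1 = 1 by ring, one_pow, mul_one]
  · rw [← two_mul, pow_mul]; norm_num

section

variable {V : Type v} [AddCommGroup V] [Module F V]

theorem shf_aeval {L : F} (hL : L ≠ 0) (A : Module.End F V) {G : F[X]} {v : V} (h : aeval A G v = 0) :
    aeval (L • A - 1) (shf L G) v = 0 := by
  have h1 : aeval (L • A - 1) (X + 1 : F[X]) = L • A := by
    rw [map_add, aeval_X, map_one, sub_add_cancel]
  have h2 : aeval (L • A) (C L⁻¹ * X : F[X]) = A := by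
    rw [map_mul, aeval_C, aeval_X, Algebra.algebraMap_eq_smul_one, smul_one_mul, smul_smul, inv_mul_cancel₀ hL, one_smul]
  rw [shf, aeval_comp, h1, scl, map_mul, aeval_comp, h2, aeval_C, Algebra.algebraMap_eq_smul_one, smul_one_mul,
    LinearMap.smul_apply, h, smul_zero]

theorem mem_span_shift {L : F} (hL : L ≠ 0) (A : Module.End F V) (v : V) {n : ℕ} (i : Fin n) :
    (A ^ (i : ℕ)) v ∈ Submodule.span F (Set.range fun j : Fin n => ((L • A - 1) ^ (j : ℕ)) v) := by
  have h1 : aeval (L • A - 1) (C L⁻¹ * (X + 1) : F[X]) = A := by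
    rw [map_mul, map_add, aeval_X, map_one, sub_add_cancel, aeval_C, Algebra.algebraMap_eq_smul_one, smul_one_mul, smul_smul,
      inv_mul_cancel₀ hL, one_smul]
  have h2 : A ^ (i : ℕ) = aeval (L • A - 1) ((C L⁻¹ * (X + 1)) ^ (i : ℕ) : F[X]) := by
    rw [map_pow, h1]
  have h3 : ((C L⁻¹ * (X + 1)) ^ (i : ℕ) : F[X]).natDegree < n := by
    refine lt_of_le_of_lt (natDegree_pow_le_of_le (i : ℕ) (m := 1) ?_) (by rw [mul_one]; exact i.2)
    exact (natDegree_C_mul_le _ _).trans natDegree_X_one.le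
  rw [h2, aeval_eq_sum_range' h3, LinearMap.sum_apply]
  refine Submodule.sum_mem _ fun j hj => ?_
  rw [LinearMap.smul_apply]
  exact Submodule.smul_mem _ _ (Submodule.subset_span ⟨⟨j, Finset.mem_range.1 hj⟩, rfl⟩)

theorem span_shift {L : F} (hL : L ≠ 0) (A : Module.End F V) (v w : V) {m n : ℕ}
    (h : ⊤ ≤ Submodule.span F (Set.range (fun i : Fin m => (A ^ (i : ℕ)) v) ∪
      Set.range fun i : Fin n => (A ^ (i : ℕ)) w)) :
    ⊤ ≤ Submodule.span F (Set.range (fun i : Fin m => ((L • A - 1) ^ (i : ℕ)) v) ∪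
      Set.range fun i : Fin n => ((L • A - 1) ^ (i : ℕ)) w) := by
  refine h.trans (Submodule.span_le.2 (Set.union_subset ?_ ?_))
  · rintro _ ⟨i, rfl⟩
    exact Submodule.span_mono Set.subset_union_left (mem_span_shift hL A v i)
  · rintro _ ⟨i, rfl⟩
    exact Submodule.span_mono Set.subset_union_right (mem_span_shift hL A w i)

end

omit [Field F] in
theorem exists_ne_three (h : 4 ≤ Nat.card F) (x y z : F) : ∃ w : F, w ≠ x ∧ w ≠ y ∧ w ≠ z := by
  classical
  by_contra hc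
  push Not at hc
  have : Finite F := Nat.finite_of_card_ne_zero (by omega)
  have h1 : (Set.univ : Set F) ⊆ ({x, y, z} : Set F) := by
    intro w _
    by_cases hx : w = x
    · simp [hx]
    · by_cases hy : w = y
      · simp [hy]
      · simp [hc w hx hy]
  have h2 := Set.ncard_le_ncard h1 (Set.toFinite _)
  have h3 : ({x, y, z} : Set F).ncard ≤ 3 :=
    (Set.ncard_insert_le _ _).trans (Nat.succ_le_succ ((Set.ncard_insert_le _ _).trans (by rw [Set.ncard_singleton])))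
  rw [Set.ncard_univ] at h2
  omega

theorem exists_param (h4 : 4 ≤ Nat.card F) (x y : F) : ∃ L Y : F, L ≠ 0 ∧ -1 - L * x ≠ 0 ∧ Y ≠ 0 ∧ Y ≠ 1 ∧
    Y ≠ -1 - L * x ∧ Y ≠ -1 - L * y := by
  have gen : ∃ L : F, L ≠ 0 ∧ -1 - L * x ≠ 0 := by
    obtain ⟨L, h1, h2, -⟩ := exists_ne_three h4 0 (-x⁻¹) 0
    refine ⟨L, h1, fun h3 => ?_⟩
    by_cases hx : x = 0
    · rw [hx, mul_zero, sub_zero, neg_eq_zero] at h3
      exact one_ne_zero h3
    · apply h2
      rw [eq_neg_iff_add_eq_zero]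
      refine mul_right_cancel₀ hx ?_
      rw [add_mul, inv_mul_cancel₀ hx, zero_mul]
      linear_combination -h3
  by_cases hxy : y = x
  · obtain ⟨L, h1, h2⟩ := gen
    obtain ⟨Y, k1, k2, k3⟩ := exists_ne_three h4 0 1 (-1 - L * x)
    exact ⟨L, Y, h1, h2, k1, k2, k3, by rw [hxy]; exact k3⟩
  by_cases hy : y = 0
  · have hx : x ≠ 0 := fun h => hxy (by rw [h, hy])
    by_cases h2 : (2 : F) = 0
    · obtain ⟨L, h1, h3⟩ := gen
      obtain ⟨Y, k1, k2, k3⟩ := exists_ne_three h4 0 1 (-1 - L * x)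
      refine ⟨L, Y, h1, h3, k1, k2, k3, ?_⟩
      rw [hy, mul_zero, sub_zero]
      intro h
      exact k2 (by linear_combination h - h2)
    · obtain ⟨Y, k1, k2, k3⟩ := exists_ne_three h4 0 1 (-1)
      have e1 : -1 - (-2 * x⁻¹) * x = (1 : F) := by
        rw [mul_assoc, inv_mul_cancel₀ hx]; ring
      refine ⟨-2 * x⁻¹, Y, mul_ne_zero (neg_ne_zero.2 h2) (inv_ne_zero hx), ?_, k1, k2, ?_, ?_⟩
      · rw [e1]; exact one_ne_zero
      · rw [e1]; exact k2
      · rw [hy, mul_zero, sub_zero]; exact k3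
  · have e1 : -1 - (-y⁻¹) * y = (0 : F) := by
      rw [neg_mul, inv_mul_cancel₀ hy]; ring
    obtain ⟨Y, k1, k2, k3⟩ := exists_ne_three h4 0 1 (-1 - (-y⁻¹) * x)
    refine ⟨-y⁻¹, Y, neg_ne_zero.2 (inv_ne_zero hy), ?_, k1, k2, k3, by rw [e1]; exact k1⟩
    intro h
    apply hxy
    have h3 : y * (-1 - (-y⁻¹) * x) = x - y := by
      rw [mul_sub, mul_neg, mul_one, neg_mul, mul_neg, ← mul_assoc, mul_inv_cancel₀ hy]; ring
    rw [h, mul_zero] at h3
    exact (sub_eq_zero.1 h3.symm).symm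

/-! ### The three cases -/

section Cases

variable {V : Type v} [AddCommGroup V] [Module F V] [FiniteDimensional F V]

/-- the conclusion -/
def Good (A : Module.End F V) : Prop :=
  ∃ L : F, L ≠ 0 ∧ ∃ X Y : Module.End F V, Y * X = L • A ∧ Irreducible (LinearMap.charpoly X) ∧
    Irreducible (LinearMap.charpoly Y)

/-- a cyclic element -/
theorem case_cyc (h4 : 4 ≤ Nat.card F) (hP : Pair F) (hV : Module.finrank F V = 5) (A : Module.End F V) {v w : V}
    {G : F[X]} (hG : G.Monic) (hGd : G.natDegree = 5)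
    (hs : ⊤ ≤ Submodule.span F (Set.range (fun i : Fin 0 => (A ^ (i : ℕ)) w) ∪
      Set.range fun i : Fin 5 => (A ^ (i : ℕ)) v)) (h0 : aeval A G v = 0) (hdet : G.coeff 0 = -1) : Good A := by
  have hL : (1 : F) ≠ 0 := one_ne_zero
  have hs' := span_shift hL A w v hs
  have h0' := shf_aeval hL A h0
  have hd := shf_monic hL hG
  have hdd : (shf 1 G).natDegree = 3 + 2 := (shf_natDegree hL G).trans hGd
  obtain ⟨T, hT⟩ : ∃ T, T = 2 - (shf 1 G).coeff 4 := ⟨_, rfl⟩
  obtain ⟨Y, hY0, hY1, hYT⟩ := exists_ne_three h4 0 1 T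
  obtain ⟨f, g, hf, hfi, hfd, hg, hgi, hgd, hf4, hfg, hfg1⟩ := hP (Y * (T - Y)) 1
    (mul_ne_zero hY0 (sub_ne_zero.2 hYT.symm)) hL
  refine ⟨1, hL, ?_⟩
  obtain ⟨X', Y', hXY, hX', hY'⟩ := slice_cyc (k := 3) hV (1 • A) (v0 := v) (d := shf 1 G) (f := f) (g := g) (c := Y - 1) (by
    refine hs'.trans (Submodule.span_mono ?_)
    refine Set.union_subset ?_ ?_
    · rintro _ ⟨i, rfl⟩; exact i.elim0
    · rintro _ ⟨i, rfl⟩; exact ⟨i, rfl⟩) hd hdd h0' hf hfi hfd hg hgi hgd (sub_ne_zero.2 hY1) (by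
      have e1 := alt_sum hd hdd
      rw [shf_eval hL, hdet] at e1
      rw [hfg]
      simp only [Finset.sum_range_succ, Finset.sum_range_zero] at e1 ⊢
      norm_num at e1 ⊢
      linear_combination -e1) (by
      rw [hfg1, hf4, hT]
      ring)
  exact ⟨X', Y', hXY, by rw [hX']; exact hfi, by rw [hY']; exact hgi⟩

/-- blocks of dimensions 1 and 4 -/
theorem case_one (h4 : 4 ≤ Nat.card F) (hP : Pair F) (hV : Module.finrank F V = 5) (A : Module.End F V) {v w : V}
    {G H : F[X]} (hG : G.Monic) (hGd : G.natDegree = 4) (hH : H.Monic) (hHd : H.natDegree = 1)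
    (hs : ⊤ ≤ Submodule.span F (Set.range (fun i : Fin 1 => (A ^ (i : ℕ)) w) ∪
      Set.range fun i : Fin 4 => (A ^ (i : ℕ)) v)) (h0 : aeval A G v = 0) (h1 : aeval A H w = 0)
    (hdet : H.coeff 0 * G.coeff 0 = -1) : Good A := by
  have hH0 : H.coeff 0 ≠ 0 := by
    intro h
    rw [h, zero_mul] at hdet
    exact one_ne_zero (neg_eq_zero.1 hdet.symm)
  obtain ⟨L, hLd⟩ : ∃ L, L = -(H.coeff 0)⁻¹ := ⟨_, rfl⟩
  have hL : L ≠ 0 := by rw [hLd]; exact neg_ne_zero.2 (inv_ne_zero hH0)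
  have hLH : L * H.coeff 0 = -1 := by rw [hLd, neg_mul, inv_mul_cancel₀ hH0]
  have hs' := span_shift hL A w v hs
  have hd := shf_monic hL hG
  have hdd : (shf L G).natDegree = 1 + 3 := (shf_natDegree hL G).trans hGd
  have hp := shf_monic hL hH
  have hpd : (shf L H).natDegree = 0 + 1 := (shf_natDegree hL H).trans hHd
  have hp0 : (shf L H).coeff 0 = 0 := by
    rw [shf_coeff hL hH (m := 0) hHd, hLH]; norm_num
  have hGL : G.coeff 0 = L := mul_left_cancel₀ hH0 (by rw [hdet, mul_comm, hLH])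
  obtain ⟨T, hT⟩ : ∃ T, T = 2 - (shf L G).coeff 3 := ⟨_, rfl⟩
  obtain ⟨Y, hY0, hY1, hYT⟩ := exists_ne_three h4 0 1 T
  obtain ⟨f, g, hf, hfi, hfd, hg, hgi, hgd, hf4, hfg, hfg1⟩ := hP (Y * (T - Y) * (L ^ 5)⁻¹) L
    (mul_ne_zero (mul_ne_zero hY0 (sub_ne_zero.2 hYT.symm)) (inv_ne_zero (pow_ne_zero _ hL))) hL
  rw [mul_comm (L ^ 5), inv_mul_cancel_right₀ (pow_ne_zero _ hL)] at hfg1
  refine ⟨L, hL, ?_⟩
  obtain ⟨X', Y', hXY, hX', hY'⟩ := slice_two (ρ := 0) (σ := 1) hV (L • A) (v1 := w) (v2 := v) (p := shf L H) (d := shf L G)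
    (f := f) (g := g) (c := Y - 1) hs' hp hpd (shf_aeval hL A h1) hd hdd (shf_aeval hL A h0) hf hfi hfd hg hgi hgd
    (sub_ne_zero.2 hY1) (by rw [hp0, sub_zero]; exact one_ne_zero) (by
      simp [hp0]) (by
      rw [hp0, sub_zero, add_sub_cancel]; exact hY1) (by
      have e1 := alt_sum hd hdd
      rw [shf_eval hL, hGL, hGd] at e1
      rw [hfg]
      simp only [Finset.sum_range_succ, Finset.sum_range_zero, hp0] at e1 ⊢
      norm_num at e1 ⊢
      linear_combination e1) (by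
      rw [hfg1, hp0, hf4, hT]
      ring)
  exact ⟨X', Y', hXY, by rw [hX']; exact hfi, by rw [hY']; exact hgi⟩

/-- blocks of dimensions 2 and 3 -/
theorem case_two (h4 : 4 ≤ Nat.card F) (hP : Pair F) (hV : Module.finrank F V = 5) (A : Module.End F V) {v w : V}
    {G H : F[X]} (hG : G.Monic) (hGd : G.natDegree = 3) (hH : H.Monic) (hHd : H.natDegree = 2)
    (hs : ⊤ ≤ Submodule.span F (Set.range (fun i : Fin 2 => (A ^ (i : ℕ)) w) ∪
      Set.range fun i : Fin 3 => (A ^ (i : ℕ)) v)) (h0 : aeval A G v = 0) (h1 : aeval A H w = 0)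
    (hdet : H.coeff 0 * G.coeff 0 = -1) : Good A := by
  have hH0 : H.coeff 0 ≠ 0 := by
    intro h
    rw [h, zero_mul] at hdet
    exact one_ne_zero (neg_eq_zero.1 hdet.symm)
  obtain ⟨L, Y, hL, hl, hY0, hY1, hYl, hYT⟩ := exists_param h4 (H.coeff 1) (G.coeff 2)
  have hs' := span_shift hL A w v hs
  have hd := shf_monic hL hG
  have hdd : (shf L G).natDegree = 0 + 3 := (shf_natDegree hL G).trans hGd
  have hp := shf_monic hL hH
  have hpd : (shf L H).natDegree = 1 + 1 := (shf_natDegree hL H).trans hHd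
  have hp1 : 1 - (shf L H).coeff 1 = -1 - L * H.coeff 1 := by
    rw [shf_coeff hL hH (m := 1) hHd]; push_cast; ring
  have hd1 : 2 - (shf L G).coeff 2 = -1 - L * G.coeff 2 := by
    rw [shf_coeff hL hG (m := 2) hGd]; push_cast; ring
  obtain ⟨f, g, hf, hfi, hfd, hg, hgi, hgd, hf4, hfg, hfg1⟩ := hP
    ((-1 - L * H.coeff 1) * (Y * (-1 - L * G.coeff 2 - Y)) * (L ^ 5)⁻¹) L
    (mul_ne_zero (mul_ne_zero hl (mul_ne_zero hY0 (sub_ne_zero.2 hYT.symm))) (inv_ne_zero (pow_ne_zero _ hL))) hL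
  rw [mul_comm (L ^ 5), inv_mul_cancel_right₀ (pow_ne_zero _ hL)] at hfg1
  have e2 := alt_sum hp hpd
  rw [shf_eval hL, hHd] at e2
  refine ⟨L, hL, ?_⟩
  obtain ⟨X', Y', hXY, hX', hY'⟩ := slice_two (ρ := 1) (σ := 0) hV (L • A) (v1 := w) (v2 := v) (p := shf L H) (d := shf L G)
    (f := f) (g := g) (c := Y - 1) hs' hp hpd (shf_aeval hL A h1) hd hdd (shf_aeval hL A h0) hf hfi hfd hg hgi hgd
    (sub_ne_zero.2 hY1) (by rw [hp1]; exact hl) (by
      rw [e2]
      exact mul_ne_zero (pow_ne_zero _ (by simp)) (mul_ne_zero (pow_ne_zero _ hL) hH0)) (by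
      rw [hp1, add_sub_cancel]; exact hYl) (by
      have e1 := alt_sum hd hdd
      rw [shf_eval hL, hGd] at e1
      rw [hfg, e2]
      simp only [Finset.sum_range_succ, Finset.sum_range_zero] at e1 ⊢
      norm_num at e1 ⊢
      linear_combination (L ^ 2 * H.coeff 0) * e1 - L ^ 5 * hdet) (by
      rw [hfg1, hp1, hf4, ← hd1]
      ring)
  exact ⟨X', Y', hXY, by rw [hX']; exact hfi, by rw [hY']; exact hgi⟩

/-- **the theorem for linear maps** -/
theorem good_or [Finite F] (h4 : 4 ≤ Nat.card F) (hP : Pair F) (hP' : Pair' F) (hV : Module.finrank F V = 5)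
    (A : Module.End F V) (hdet : LinearMap.det A = 1) (hns : ∀ c : F, A ≠ c • 1) :
    Good A ∨ ∃ Z : Module.End F V, Irreducible (LinearMap.charpoly (A * Z)) ∧ Irreducible (LinearMap.charpoly Z) := by
  rcases dich A with ⟨q, hq, hqi, hq3, hqk⟩ | ⟨v1, v2, g1, g2, hg1, hg2, hle, hsum, hs, ha1, ha2, hd⟩
  · right
    have hq1 : q.natDegree = 1 := by
      have := hqi.natDegree_pos
      omega
    obtain ⟨c, hc⟩ : ∃ c, q = X - C c := ⟨-q.coeff 0, by
      rw [C_neg, sub_neg_eq_add]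
      exact hq.eq_X_add_C hq1⟩
    have hk := hqk c hc
    have hrk := LinearMap.finrank_range_add_finrank_ker (A - c • (1 : Module.End F V))
    have hc0 : c ≠ 0 := by
      rintro rfl
      rw [zero_smul, sub_zero] at hk
      have h2 : LinearMap.ker A = ⊥ := LinearMap.ker_eq_bot.2
        (LinearMap.equivOfDetNeZero A (by rw [hdet]; exact one_ne_zero)).injective
      rw [h2, finrank_bot] at hk
      omega
    obtain ⟨p, g, hp, hpi, hpd, hg, hgi, hgd, hp4, hg4, hpg⟩ := hP'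
    have hcoef : ∀ {f : F[X]}, Irreducible f → f.natDegree = 5 → f.coeff 0 ≠ 0 := by
      intro f hfi hfd h0
      have h2 : (X : F[X]) ∣ f := X_dvd_iff.2 h0
      have h3 := (hfi.dvd_iff.1 h2).resolve_left not_isUnit_X
      have h4 := natDegree_eq_of_degree_eq (degree_eq_degree_of_associated h3)
      rw [natDegree_X] at h4
      omega
    obtain ⟨Z, hZ1, hZ2⟩ := H130.War.exists_rank_le_two (m := 5) le_rfl hV hc0 (by omega) (hns c) hp hpd
      (hcoef hpi hpd) hg hgd (hcoef hgi hgd) (by rw [hdet, one_mul, hpg]) (by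
        intro h
        have h2 := congrArg (fun f => f.coeff 4) h
        rw [hp4, coeff_C_mul, comp_C_mul_X_coeff, hg4] at h2
        have h3 : c ^ 5 * (1 * c⁻¹ ^ 4) ≠ 0 := mul_ne_zero (pow_ne_zero _ hc0) (mul_ne_zero one_ne_zero
          (pow_ne_zero _ (inv_ne_zero hc0)))
        exact h3 h2.symm)
    exact ⟨Z, by rw [hZ1]; exact hpi, by rw [hZ2]; exact hgi⟩
  · left
    have hdet' : g1.coeff 0 * g2.coeff 0 = -1 := by
      rw [hsum, hV, hdet] at hd
      linear_combination hd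
    have hcase : g1.natDegree = 0 ∨ g1.natDegree = 1 ∨ g1.natDegree = 2 := by omega
    rcases hcase with h | h | h
    · have h2 : g2.natDegree = 5 := by omega
      have hg1' : g1 = 1 := hg1.natDegree_eq_zero.1 h
      rw [h, h2] at hs
      rw [hg1', coeff_one_zero, one_mul] at hdet'
      exact case_cyc h4 hP hV A hg2 h2 hs ha2 hdet'
    · have h2 : g2.natDegree = 4 := by omega
      rw [h, h2] at hs
      exact case_one h4 hP hV A hg2 h2 hg1 h hs ha2 ha1 hdet'
    · have h2 : g2.natDegree = 3 := by omega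
      rw [h, h2] at hs
      exact case_two h4 hP hV A hg2 h2 hg1 h hs ha2 ha1 hdet'

end Cases

end Cfsg.Agent.H962.PP
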