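import Cfsg.Agent.H962.PP.Tri
import Mathlib.LinearAlgebra.Matrix.Charpoly.Coeff
import Mathlib.LinearAlgebra.Matrix.Determinant.Basic

/-!
# Lower Hessenberg matrices as products of two prescribed matrices

`L` invertible lower Hessenberg of size `k + 2` with `L 0 1 ≠ 0`.  For monic `p` of degree `k + 2`
and monic `f` of degree `k + 1` with nonzero constant coefficients, `L = x * y` with
`charpoly x = p`, `charpoly y = (X - c) * f`; both `x` and the lower right corner of `y` are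
cyclic.
-/

set_option autoImplicit false

namespace Cfsg.Agent.H962.PP

open Module Matrix Polynomial

variable {F : Type*} [Field F] {k : ℕ}

/-- the characteristic polynomial of a matrix with first row `(c, 0, …, 0)` -/
theorem charpoly_of_row {n : ℕ} (y : Matrix (Fin (n + 1)) (Fin (n + 1)) F)
    (h : ∀ j : Fin n, y 0 j.succ = 0) :
    y.charpoly = (X - C (y 0 0)) * (y.submatrix Fin.succ Fin.succ).charpoly := by
  rw [Matrix.charpoly, Matrix.det_succ_row_zero, Fin.sum_univ_succ, Finset.sum_eq_zero, add_zero]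
  · have h1 : (y.charmatrix.submatrix Fin.succ (Fin.succAbove 0))
        = (y.submatrix Fin.succ Fin.succ).charmatrix := by
      ext i j
      rw [Fin.succAbove_zero, submatrix_apply]
      by_cases hij : i = j
      · subst hij; rw [charmatrix_apply_eq, charmatrix_apply_eq, submatrix_apply]
      · rw [charmatrix_apply_ne _ _ _ hij, charmatrix_apply_ne _ _ _
          (fun h => hij (Fin.succ_injective _ h)), submatrix_apply]
    rw [h1, charmatrix_apply_eq]
    simp [Matrix.charpoly]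
  · intro j _
    rw [charmatrix_apply_ne _ _ _ (Fin.succ_ne_zero j).symm, h j]
    simp

/-- a nonzero constant coefficient of the characteristic polynomial -/
theorem det_ne_zero_iff {n : ℕ} {x : Matrix (Fin n) (Fin n) F} :
    x.det ≠ 0 ↔ x.charpoly.coeff 0 ≠ 0 := by
  rw [Matrix.det_eq_sign_charpoly_coeff]
  have h1 : ((-1 : F)) ^ Fintype.card (Fin n) ≠ 0 := pow_ne_zero _ (by simp)
  exact ⟨fun h h0 => h (by rw [h0, mul_zero]), fun h => mul_ne_zero h1 h⟩

/-- pole placement, matrices -/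
theorem pole' {N : ℕ} (S : (Fin N → F) →ₗ[F] (Fin N → F)) (φ : (Fin N → F) →ₗ[F] F)
    (hobs : ∀ U : Submodule F (Fin N → F), (∀ u ∈ U, φ u = 0) → (∀ u ∈ U, S u ∈ U) → U = ⊥)
    {p : F[X]} (hp : p.Monic) (hdeg : p.natDegree = N) :
    ∃ S' : Matrix (Fin N) (Fin N) F, (∀ v, φ v = 0 → S' *ᵥ v = S v) ∧ S'.charpoly = p ∧
      ∃ m : Fin N → F, LinearIndependent F (fun i : Fin N => (S' ^ (i : ℕ)) *ᵥ m) := by
  have hfin : finrank F (Fin N → F) = N := by simp
  obtain ⟨ζ, hζ, m, hm⟩ := pole S φ (fun U h1 h2 => hobs U (fun u hu => h1 hu)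
    (fun u hu => h2 (Submodule.mem_map_of_mem hu))) hp (by rw [hdeg, hfin])
  rw [hfin] at hm
  refine ⟨LinearMap.toMatrix' (S + φ.smulRight ζ), ?_, ?_, m, ?_⟩
  · intro v hv
    rw [← Matrix.toLin'_apply, Matrix.toLin'_toMatrix', LinearMap.add_apply,
      LinearMap.smulRight_apply, hv, zero_smul, add_zero]
  · rw [← LinearMap.toMatrix_eq_toMatrix', LinearMap.charpoly_toMatrix, hζ]
  · have h : (fun i : Fin N => ((LinearMap.toMatrix' (S + φ.smulRight ζ)) ^ (i : ℕ)) *ᵥ m)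
        = fun i : Fin N => ((S + φ.smulRight ζ) ^ (i : ℕ)) m := by
      funext i
      rw [← Matrix.toLin'_apply, Matrix.toLin'_pow, Matrix.toLin'_toMatrix']
    rw [h]
    exact hm

variable {P : Matrix (Fin (k + 1)) (Fin (k + 1)) F}

/-- **step b** -/
theorem stepB (hP : LH P) (hinj : ∀ v, v 0 = 0 → P *ᵥ v = 0 → v = 0) {f : F[X]} (hf : f.Monic)
    (hdeg : f.natDegree = k + 1) :
    ∃ B : Matrix (Fin (k + 1)) (Fin (k + 1)) F, (∀ v, v 0 = 0 → B *ᵥ (tT P v) = P *ᵥ v) ∧
      B.charpoly = f ∧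
      ∃ m : Fin (k + 1) → F, LinearIndependent F (fun i : Fin (k + 1) => (B ^ (i : ℕ)) *ᵥ m) := by
  let Te : (Fin (k + 1) → F) ≃ₗ[F] (Fin (k + 1) → F) :=
    LinearEquiv.ofInjectiveEndo (tT P) (tT_inj hP)
  have hTe : ∀ v, Te v = tT P v := fun v => rfl
  have hobs : ∀ U : Submodule F (Fin (k + 1) → F),
      (∀ u ∈ U, (LinearMap.proj 0 ∘ₗ Te.symm.toLinearMap : (Fin (k + 1) → F) →ₗ[F] F) u = 0) →
      (∀ u ∈ U, (P.mulVecLin ∘ₗ Te.symm.toLinearMap) u ∈ U) → U = ⊥ := by
    intro U h1 h2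
    have h0 : U.comap (tT P) = ⊥ := by
      apply tT_obs' hP hinj
      · intro u hu
        have h3 := h1 _ hu
        simp only [LinearMap.comp_apply, LinearEquiv.coe_coe, LinearMap.proj_apply] at h3
        rwa [← hTe, LinearEquiv.symm_apply_apply] at h3
      · have hsurj : Function.Surjective (tT P) := Te.surjective
        rw [Submodule.map_comap_eq_of_surjective hsurj]
        rw [Submodule.map_le_iff_le_comap]
        intro u hu
        have h3 := h2 _ hu
        simp only [LinearMap.comp_apply, LinearEquiv.coe_coe] at h3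
        rwa [← hTe, LinearEquiv.symm_apply_apply] at h3
    rw [eq_bot_iff]
    intro u hu
    have h3 : Te.symm u ∈ U.comap (tT P) := by
      rw [Submodule.mem_comap, ← hTe, LinearEquiv.apply_symm_apply]; exact hu
    rw [h0, Submodule.mem_bot] at h3
    rw [Submodule.mem_bot]
    simpa using h3
  obtain ⟨B, hB, hBf, hBm⟩ := pole' (P.mulVecLin ∘ₗ Te.symm.toLinearMap)
    (LinearMap.proj 0 ∘ₗ Te.symm.toLinearMap) hobs hf hdeg
  refine ⟨B, ?_, hBf, hBm⟩
  intro v hv
  have h1 : Te.symm (tT P v) = v := by rw [← hTe, LinearEquiv.symm_apply_apply]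
  rw [hB]
  · simp [h1]
  · simp [h1, hv]

/-- `w ↦ (0, w)` -/
def consL {n : ℕ} : (Fin n → F) →ₗ[F] (Fin (n + 1) → F) where
  toFun w := Fin.cons 0 w
  map_add' v w := by
    ext i; refine Fin.cases ?_ (fun j => ?_) i <;> simp
  map_smul' c v := by
    ext i; refine Fin.cases ?_ (fun j => ?_) i <;> simp

@[simp] theorem consL_zero {n : ℕ} (w : Fin n → F) : consL w 0 = 0 := rfl
@[simp] theorem consL_succ {n : ℕ} (w : Fin n → F) (i : Fin n) : consL w i.succ = w i := rfl

theorem consL_tail {n : ℕ} {u : Fin (n + 1) → F} (hu : u 0 = 0) :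
    consL (fun i : Fin n => u i.succ) = u := by
  ext i; refine Fin.cases ?_ (fun j => ?_) i
  · rw [consL_zero, hu]
  · rw [consL_succ]

theorem mulVec_consL_zero {n : ℕ} (y : Matrix (Fin (n + 1)) (Fin (n + 1)) F) (w : Fin n → F) :
    (y *ᵥ consL w) 0 = ∑ j, y 0 j.succ * w j := by
  simp [mulVec, dotProduct, Fin.sum_univ_succ]

theorem mulVec_consL_succ {n : ℕ} (y : Matrix (Fin (n + 1)) (Fin (n + 1)) F) (w : Fin n → F)
    (i : Fin n) : (y *ᵥ consL w) i.succ = ((y.submatrix Fin.succ Fin.succ) *ᵥ w) i := by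
  simp [mulVec, dotProduct, Fin.sum_univ_succ]

theorem consL_single {n : ℕ} (j : Fin n) : (consL (Pi.single j 1) : Fin (n + 1) → F)
    = Pi.single j.succ 1 := by
  ext i; refine Fin.cases ?_ (fun l => ?_) i
  · rw [consL_zero, Pi.single_eq_of_ne (Fin.succ_ne_zero j).symm]
  · rw [consL_succ, Pi.single_apply, Pi.single_apply]
    simp only [Fin.succ_inj]

/-- **Lower Hessenberg matrices.** -/
theorem hess {L : Matrix (Fin (k + 2)) (Fin (k + 2)) F} (hL : LH L) (hdet : L.det ≠ 0)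
    (h01 : L 0 1 ≠ 0) {p f : F[X]} (hp : p.Monic) (hpdeg : p.natDegree = k + 2)
    (hp0 : p.coeff 0 ≠ 0) (hf : f.Monic) (hfdeg : f.natDegree = k + 1) (hf0 : f.coeff 0 ≠ 0) :
    ∃ x y : Matrix (Fin (k + 2)) (Fin (k + 2)) F, x * y = L ∧ x.charpoly = p ∧
      (∃ m : Fin (k + 2) → F, LinearIndependent F (fun i : Fin (k + 2) => (x ^ (i : ℕ)) *ᵥ m)) ∧
      (∀ j : Fin (k + 1), y 0 j.succ = 0) ∧ y 0 0 ≠ 0 ∧
      (y.submatrix Fin.succ Fin.succ).charpoly = f ∧
      ∃ m : Fin (k + 1) → F,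
        LinearIndependent F
          (fun i : Fin (k + 1) => ((y.submatrix Fin.succ Fin.succ) ^ (i : ℕ)) *ᵥ m) := by
  obtain ⟨P, hPdef⟩ : ∃ P, P = L.submatrix Fin.succ Fin.succ := ⟨_, rfl⟩
  have hP : LH P := by
    intro i j hij
    rw [hPdef, submatrix_apply]
    apply hL
    simpa using hij
  have hL0 : ∀ w : Fin (k + 1) → F, (L *ᵥ consL w) 0 = L 0 1 * w 0 := by
    intro w
    rw [mulVec_consL_zero, Finset.sum_eq_single 0]
    · rw [Fin.succ_zero_eq_one]
    · intro j _ hj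
      rw [hL 0 j.succ, zero_mul]
      rw [Fin.val_zero, Fin.val_succ]
      have : (j : ℕ) ≠ 0 := fun h => hj (Fin.ext h)
      omega
    · intro h; exact absurd (Finset.mem_univ _) h
  have hLs : ∀ (w : Fin (k + 1) → F) (i : Fin (k + 1)),
      (L *ᵥ consL w) i.succ = (P *ᵥ w) i := by
    intro w i; rw [mulVec_consL_succ, hPdef]
  have hLK : ∀ w : Fin (k + 1) → F, w 0 = 0 → L *ᵥ consL w = consL (P *ᵥ w) := by
    intro w hw
    ext i; refine Fin.cases ?_ (fun j => ?_) i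
    · rw [hL0, hw, mul_zero, consL_zero]
    · rw [hLs, consL_succ]
  have hinj : ∀ v : Fin (k + 1) → F, v 0 = 0 → P *ᵥ v = 0 → v = 0 := by
    intro v hv h
    have h1 : L *ᵥ consL v = 0 := by rw [hLK v hv, h, map_zero]
    have h2 := Matrix.eq_zero_of_mulVec_eq_zero hdet h1
    ext i
    have := congrFun h2 i.succ
    rwa [consL_succ] at this
  obtain ⟨B, hBT, hBf, hBm⟩ := stepB hP hinj hf hfdeg
  have hBdet : B.det ≠ 0 := det_ne_zero_iff.mpr (by rwa [hBf])
  have hBB : ∀ w, B⁻¹ *ᵥ (B *ᵥ w) = w := by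
    intro w
    rw [Matrix.mulVec_mulVec, Matrix.nonsing_inv_mul _ hBdet.isUnit, Matrix.one_mulVec]
  have hBB' : ∀ w, B *ᵥ (B⁻¹ *ᵥ w) = w := by
    intro w
    rw [Matrix.mulVec_mulVec, Matrix.mul_nonsing_inv _ hBdet.isUnit, Matrix.one_mulVec]
  -- the map `x0`
  obtain ⟨x0, hx0⟩ : ∃ x0 : (Fin (k + 2) → F) →ₗ[F] (Fin (k + 2) → F),
      ∀ v, x0 v = L *ᵥ consL (B⁻¹ *ᵥ (fun i : Fin (k + 1) => v i.succ)) :=
    ⟨L.mulVecLin ∘ₗ consL ∘ₗ (B⁻¹).mulVecLin ∘ₗ (LinearMap.funLeft F F Fin.succ), fun v => rfl⟩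
  have hx0B : ∀ w, x0 (consL (B *ᵥ w)) = L *ᵥ consL w := by
    intro w
    rw [hx0]
    simp only [consL_succ]
    rw [hBB]
  obtain ⟨x, hx, hxp, hxm⟩ := pole' x0 (LinearMap.proj 0) (by
    intro U1 h1 h2
    have hU : U1.comap (consL ∘ₗ B.mulVecLin) = ⊥ := by
      have hkey : ∀ v ∈ U1.comap (consL ∘ₗ B.mulVecLin), v 0 = 0 := by
        intro v hv
        have h3 := h1 _ (h2 _ hv)
        simp only [LinearMap.comp_apply, Matrix.mulVecLin_apply, LinearMap.proj_apply] at h3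
        rw [hx0B, hL0] at h3
        exact (mul_eq_zero.mp h3).resolve_left h01
      apply tT_obs hP _ hkey
      intro v hv
      have h3 := h2 _ hv
      have h4 : L *ᵥ consL v ∈ U1 := by
        have : x0 ((consL ∘ₗ B.mulVecLin) v) = L *ᵥ consL v := hx0B v
        rwa [this] at h3
      rw [hLK v (hkey v hv), ← hBT v (hkey v hv)] at h4
      exact h4
    rw [eq_bot_iff]
    intro u hu
    have hu0 : u 0 = 0 := h1 u hu
    have h3 : (B⁻¹ *ᵥ (fun i : Fin (k + 1) => u i.succ)) ∈ U1.comap (consL ∘ₗ B.mulVecLin) := by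
      rw [Submodule.mem_comap, LinearMap.comp_apply, Matrix.mulVecLin_apply, hBB', consL_tail hu0]
      exact hu
    rw [hU, Submodule.mem_bot] at h3
    have h4 : (fun i : Fin (k + 1) => u i.succ) = 0 := by
      rw [← hBB' (fun i : Fin (k + 1) => u i.succ), h3, mulVec_zero]
    rw [Submodule.mem_bot, ← consL_tail hu0, h4, map_zero]) hp hpdeg
  have hxdet : x.det ≠ 0 := det_ne_zero_iff.mpr (by rwa [hxp])
  obtain ⟨y, hy⟩ : ∃ y, y = x⁻¹ * L := ⟨_, rfl⟩
  have hxy : x * y = L := by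
    rw [hy, ← mul_assoc, Matrix.mul_nonsing_inv _ hxdet.isUnit, one_mul]
  have hyB : ∀ w, y *ᵥ consL w = consL (B *ᵥ w) := by
    intro w
    rw [hy, ← Matrix.mulVec_mulVec, ← hx0B, ← hx (consL (B *ᵥ w)) (by rw [LinearMap.proj_apply, consL_zero]),
      Matrix.mulVec_mulVec, Matrix.nonsing_inv_mul _ hxdet.isUnit, Matrix.one_mulVec]
  have hy0 : ∀ j : Fin (k + 1), y 0 j.succ = 0 := by
    intro j
    have h1 := congrFun (hyB (Pi.single j 1)) 0
    rw [consL_single, Matrix.mulVec_single_one, consL_zero] at h1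
    exact h1
  have hyS : y.submatrix Fin.succ Fin.succ = B := by
    ext i j
    have h1 := congrFun (hyB (Pi.single j 1)) i.succ
    rw [consL_single, Matrix.mulVec_single_one, consL_succ, Matrix.mulVec_single_one] at h1
    exact h1
  have hydet : y.det ≠ 0 := by
    intro h
    apply hdet
    rw [← hxy, det_mul, h, mul_zero]
  refine ⟨x, y, hxy, hxp, hxm, hy0, ?_, by rw [hyS, hBf], by rw [hyS]; exact hBm⟩
  intro h
  rw [det_ne_zero_iff, charpoly_of_row y hy0, h] at hydet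
  apply hydet
  simp

end Cfsg.Agent.H962.PP
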