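import Cfsg.Agent.H962.PP.Hess
import Mathlib.LinearAlgebra.Center
import Mathlib.LinearAlgebra.Matrix.NonsingularInverse
import Mathlib.LinearAlgebra.Matrix.Basis

/-!
# Products of two matrices with prescribed characteristic polynomials

`exists_hess`: a nonscalar matrix is similar to a lower Hessenberg matrix `L` with `L 0 1 ≠ 0`.

`exists_mul`: an invertible nonscalar `A` of size `k + 2` is `x * y` with `x.charpoly = p` any
monic polynomial of degree `k + 2` with nonzero constant coefficient, and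
`y.charpoly = (X - c) * f`, `f` any monic polynomial of degree `k + 1` with nonzero constant
coefficient.
-/

set_option autoImplicit false

namespace Cfsg.Agent.H962.PP

open Module Matrix Polynomial

variable {F : Type*} [Field F]

section seq
variable {V : Type*} [AddCommGroup V] [Module F V] [FiniteDimensional F V]

open scoped Classical in
/-- a vector outside `W`, if there is one -/
noncomputable def outside (W : Submodule F V) : V :=
  if h : ∃ v, v ∉ W then h.choose else 0

omit [FiniteDimensional F V] in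
theorem outside_notMem {W : Submodule F V} (h : W ≠ ⊤) : outside W ∉ W := by
  have h' : ∃ v, v ∉ W := by
    by_contra hc
    push Not at hc
    exact h (eq_top_iff.mpr fun v _ => hc v)
  rw [outside, dif_pos h']
  exact h'.choose_spec

open scoped Classical in
/-- the pairs (span of the vectors so far, next vector) -/
noncomputable def st (a : V →ₗ[F] V) (v0 : V) : ℕ → Submodule F V × V
  | 0 => (⊥, v0)
  | n + 1 => ((st a v0 n).1 ⊔ Submodule.span F {(st a v0 n).2},
      if a (st a v0 n).2 ∉ (st a v0 n).1 ⊔ Submodule.span F {(st a v0 n).2} then a (st a v0 n).2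
      else outside ((st a v0 n).1 ⊔ Submodule.span F {(st a v0 n).2}))

variable (a : V →ₗ[F] V) (v0 : V)

omit [FiniteDimensional F V] in
theorem st_one (n : ℕ) : (st a v0 n).1
    = Submodule.span F (Set.range fun i : Fin n => (st a v0 i).2) := by
  induction n with
  | zero => simp [st]
  | succ n ih =>
    rw [st, ih, ← Submodule.span_union]
    refine congrArg (Submodule.span F) (Set.ext fun v => ?_)
    simp only [Set.mem_union, Set.mem_range, Set.mem_singleton_iff]
    constructor
    · rintro (⟨i, rfl⟩ | rfl)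
      · exact ⟨i.castSucc, rfl⟩
      · exact ⟨Fin.last n, rfl⟩
    · rintro ⟨i, rfl⟩
      refine Fin.lastCases ?_ (fun j => ?_) i
      · right; rfl
      · left; exact ⟨j, rfl⟩

omit [FiniteDimensional F V] in
theorem st_mem {i n : ℕ} (h : i < n) : (st a v0 i).2 ∈ (st a v0 n).1 := by
  rw [st_one]; exact Submodule.subset_span ⟨⟨i, h⟩, rfl⟩

omit [FiniteDimensional F V] in
theorem st_ne_top {n : ℕ} (h : n < finrank F V) : (st a v0 n).1 ≠ ⊤ := by
  intro ht
  have h1 : finrank F (st a v0 n).1 ≤ n := by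
    rw [st_one]
    exact (finrank_range_le_card _).trans (by simp)
  rw [ht, finrank_top] at h1
  omega

omit [FiniteDimensional F V] in
theorem st_two_notMem (hv0 : v0 ≠ 0) {n : ℕ} (h : n < finrank F V) :
    (st a v0 n).2 ∉ (st a v0 n).1 := by
  cases n with
  | zero => simpa [st] using hv0
  | succ n =>
    have h1 := st_ne_top a v0 h
    rw [st] at h1 ⊢
    simp only at h1 ⊢
    split_ifs with h2
    · exact outside_notMem h1
    · exact h2

omit [FiniteDimensional F V] in
theorem st_map (n : ℕ) : a (st a v0 n).2 ∈ (st a v0 (n + 2)).1 := by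
  by_cases h2 : a (st a v0 n).2 ∉ (st a v0 n).1 ⊔ Submodule.span F {(st a v0 n).2}
  · have h3 : (st a v0 (n + 1)).2 = a (st a v0 n).2 := by
      rw [st]; simp only; rw [if_pos h2]
    rw [← h3]
    exact st_mem a v0 (by omega)
  · push Not at h2
    have h3 : (st a v0 (n + 1)).1 ≤ (st a v0 (n + 2)).1 := by
      conv_rhs => rw [st]
      exact le_sup_left
    exact h3 h2

omit [FiniteDimensional F V] in
theorem st_indep (hv0 : v0 ≠ 0) : ∀ n ≤ finrank F V,
    LinearIndependent F (fun i : Fin n => (st a v0 i).2) := by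
  intro n
  induction n with
  | zero => intro _; exact linearIndependent_empty_type
  | succ n ih =>
    intro hn
    rw [linearIndependent_finSucc']
    refine ⟨ih (by omega), ?_⟩
    have h1 := st_two_notMem a v0 hv0 (n := n) (by omega)
    rw [st_one] at h1
    simpa [Fin.init_def] using h1

end seq

variable {k : ℕ}

/-- a nonscalar matrix moves a row vector off its line -/
theorem exists_row {n : ℕ} (A : Matrix (Fin n) (Fin n) F) (hA : ∀ c : F, A ≠ scalar (Fin n) c) :
    ∃ v : Fin n → F, v ≠ 0 ∧ v ᵥ* A ∉ Submodule.span F {v} := by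
  by_contra hcon
  push Not at hcon
  have h1 : ∀ v : Fin n → F, ¬ LinearIndependent F ![v, A.vecMulLinear v] := by
    intro v hli
    rw [LinearIndependent.pair_iff] at hli
    by_cases hv : v = 0
    · have := hli 1 0 (by rw [hv]; simp)
      exact one_ne_zero this.1
    · obtain ⟨c, hc⟩ := Submodule.mem_span_singleton.mp (hcon v hv)
      have h2 := hli c (-1) (by
        rw [hc, Matrix.vecMulLinear_apply]; simp)
      exact one_ne_zero (neg_eq_zero.mp h2.2)
  obtain ⟨c, hc⟩ := LinearMap.exists_eq_smul_id_of_forall_notLinearIndependent h1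
  apply hA c
  ext i j
  have h2 : A.vecMulLinear (Pi.single i 1) = c • (Pi.single i (1 : F)) := by rw [hc]; simp
  rw [Matrix.vecMulLinear_apply, Matrix.single_one_vecMul] at h2
  have h3 := congrFun h2 j
  rw [Matrix.row_apply] at h3
  rw [h3, scalar_apply, diagonal_apply]
  simp [Pi.single_apply, eq_comm]

/-- **Hessenberg form** -/
theorem exists_hess (A : Matrix (Fin (k + 2)) (Fin (k + 2)) F)
    (hA : ∀ c : F, A ≠ scalar (Fin (k + 2)) c) :
    ∃ (R L : Matrix (Fin (k + 2)) (Fin (k + 2)) F), IsUnit R.det ∧ R * A = L * R ∧ LH L ∧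
      L 0 1 ≠ 0 := by
  obtain ⟨v0, hv0, hvA⟩ := exists_row A hA
  obtain ⟨a, ha⟩ : ∃ a : (Fin (k + 2) → F) →ₗ[F] (Fin (k + 2) → F), a = A.vecMulLinear := ⟨_, rfl⟩
  have ha' : ∀ v, a v = v ᵥ* A := fun v => by rw [ha, Matrix.vecMulLinear_apply]
  have hfin : finrank F (Fin (k + 2) → F) = k + 2 := by simp
  have hli := st_indep a v0 hv0 (k + 2) (by rw [hfin])
  let b : Basis (Fin (k + 2)) F (Fin (k + 2) → F) :=
    basisOfLinearIndependentOfCardEqFinrank hli (by simp)
  have hb : ∀ i, b i = (st a v0 i).2 := fun i => by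
    simp [b]
  let R : Matrix (Fin (k + 2)) (Fin (k + 2)) F := Matrix.of fun i => b i
  let L : Matrix (Fin (k + 2)) (Fin (k + 2)) F := Matrix.of fun i j => b.repr (a (b i)) j
  have hRL : R * A = L * R := by
    ext i j
    have h1 : (R * A) i = a (b i) := by
      rw [ha']; rfl
    have h2 : (L * R) i = a (b i) := by
      rw [← b.sum_repr (a (b i))]
      ext l
      rw [Matrix.mul_apply, Finset.sum_apply]
      exact Finset.sum_congr rfl fun m _ => rfl
    rw [h1, h2]
  have hR : IsUnit R.det := by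
    rw [← Matrix.isUnit_iff_isUnit_det, ← Matrix.linearIndependent_rows_iff_isUnit]
    exact b.linearIndependent
  have hmemspan : ∀ (n : ℕ) (v : Fin (k + 2) → F), v ∈ (st a v0 n).1 →
      ∀ j : Fin (k + 2), n ≤ j → b.repr v j = 0 := by
    intro n v hv j hj
    rw [st_one] at hv
    refine Submodule.span_induction (p := fun v _ => b.repr v j = 0) ?_ ?_ ?_ ?_ hv
    · rintro _ ⟨i, rfl⟩
      have hi : (i : ℕ) < k + 2 := by have := i.2; have := j.2; omega
      have h3 : (st a v0 i).2 = b ⟨i, hi⟩ := (hb ⟨i, hi⟩).symm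
      simp only
      rw [h3, b.repr_self, Finsupp.single_eq_of_ne]
      intro h
      rw [h] at hj
      simp only at hj
      have := i.2
      omega
    · simp
    · intro x y _ _ hx hy; rw [map_add, Finsupp.add_apply, hx, hy, add_zero]
    · intro c x _ hx; rw [map_smul, Finsupp.smul_apply, hx, smul_zero]
  refine ⟨R, L, hR, hRL, ?_, ?_⟩
  · intro i j hij
    change b.repr (a (b i)) j = 0
    apply hmemspan ((i : ℕ) + 2)
    · rw [hb]; exact st_map a v0 i
    · omega
  · change b.repr (a (b 0)) 1 ≠ 0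
    have h0 : b 0 = v0 := by rw [hb]; rfl
    have h1 : b 1 = a v0 := by
      rw [hb]
      change (st a v0 (0 + 1)).2 = a v0
      rw [st]
      simp only
      rw [if_pos]
      · rfl
      · change a v0 ∉ ⊥ ⊔ Submodule.span F {v0}
        rw [bot_sup_eq, ha']
        exact hvA
    rw [h0, ← h1, b.repr_self]
    simp

/-- **Products of two matrices with prescribed characteristic polynomials.** -/
theorem exists_mul (A : Matrix (Fin (k + 2)) (Fin (k + 2)) F) (hdet : A.det ≠ 0)
    (hA : ∀ c : F, A ≠ scalar (Fin (k + 2)) c) {p f : F[X]} (hp : p.Monic)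
    (hpdeg : p.natDegree = k + 2) (hp0 : p.coeff 0 ≠ 0) (hf : f.Monic) (hfdeg : f.natDegree = k + 1)
    (hf0 : f.coeff 0 ≠ 0) :
    ∃ x y : Matrix (Fin (k + 2)) (Fin (k + 2)) F, A = x * y ∧ x.charpoly = p ∧
      (∃ m : Fin (k + 2) → F, LinearIndependent F (fun i : Fin (k + 2) => (x ^ (i : ℕ)) *ᵥ m)) ∧
      ∃ c : F, c ≠ 0 ∧ y.charpoly = (X - C c) * f := by
  obtain ⟨R, L, hR, hRL, hL, hL01⟩ := exists_hess A hA
  have hRR : R⁻¹ * R = 1 := Matrix.nonsing_inv_mul _ hR
  have hRR' : R * R⁻¹ = 1 := Matrix.mul_nonsing_inv _ hR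
  have hLdet : L.det ≠ 0 := by
    have h1 : R.det * A.det = L.det * R.det := by rw [← det_mul, ← det_mul, hRL]
    intro h
    rw [h, zero_mul] at h1
    exact mul_ne_zero hR.ne_zero hdet h1
  obtain ⟨x, y, hxy, hxp, ⟨m, hm⟩, hy0, hyc, hyf, -⟩ :=
    hess hL hLdet hL01 hp hpdeg hp0 hf hfdeg hf0
  have hconj : ∀ M : Matrix (Fin (k + 2)) (Fin (k + 2)) F,
      (R⁻¹ * M * R).charpoly = M.charpoly := by
    intro M
    rw [Matrix.charpoly_mul_comm, ← mul_assoc, hRR', one_mul]
  have hpow : ∀ (M : Matrix (Fin (k + 2)) (Fin (k + 2)) F) (i : ℕ),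
      (R⁻¹ * M * R) ^ i = R⁻¹ * M ^ i * R := by
    intro M i
    induction i with
    | zero => rw [pow_zero, pow_zero, mul_one, hRR]
    | succ i ih =>
      rw [pow_succ, ih, pow_succ]
      have : R⁻¹ * M ^ i * R * (R⁻¹ * M * R) = R⁻¹ * M ^ i * (R * R⁻¹) * M * R := by
        simp only [mul_assoc]
      rw [this, hRR', mul_one, mul_assoc (R⁻¹)]
  refine ⟨R⁻¹ * x * R, R⁻¹ * y * R, ?_, by rw [hconj, hxp], ⟨R⁻¹ *ᵥ m, ?_⟩, y 0 0, hyc, ?_⟩
  · have h1 : R⁻¹ * x * R * (R⁻¹ * y * R) = R⁻¹ * x * (R * R⁻¹) * y * R := by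
      simp only [mul_assoc]
    rw [h1, hRR', mul_one, mul_assoc (R⁻¹), hxy, mul_assoc, ← hRL, ← mul_assoc, hRR, one_mul]
  · have h1 : (fun i : Fin (k + 2) => ((R⁻¹ * x * R) ^ (i : ℕ)) *ᵥ (R⁻¹ *ᵥ m))
        = fun i : Fin (k + 2) => (R⁻¹).mulVecLin ((x ^ (i : ℕ)) *ᵥ m) := by
      funext i
      rw [hpow, Matrix.mulVec_mulVec, mul_assoc, hRR', mul_one, Matrix.mulVecLin_apply,
        Matrix.mulVec_mulVec]
    rw [h1]
    refine hm.map' (R⁻¹).mulVecLin ?_
    rw [LinearMap.ker_eq_bot']
    intro v hv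
    rw [Matrix.mulVecLin_apply] at hv
    rw [← Matrix.one_mulVec v, ← hRR', ← Matrix.mulVec_mulVec, hv, mulVec_zero]
  · rw [hconj, charpoly_of_row y hy0, hyf]

end Cfsg.Agent.H962.PP
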