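import Mathlib.LinearAlgebra.Charpoly.Basic
import Mathlib.LinearAlgebra.Charpoly.ToMatrix
import Mathlib.LinearAlgebra.FiniteDimensional.Lemmas
import Mathlib.LinearAlgebra.Dimension.Constructions

/-!
# Pole placement

If no nonzero `S`-invariant subspace lies in the kernel of the functional `φ`, then any monic
polynomial of the right degree is the characteristic polynomial of `S + ζ ⊗ φ` for some `ζ`.
-/

namespace Cfsg.Agent.H962.PP

open Polynomial Module

variable {F : Type*} [Field F] {M : Type*} [AddCommGroup M] [Module F M] [FiniteDimensional F M]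

omit [FiniteDimensional F M] in
/-- The vectors `m, Sm, …` are independent as long as none of them lies in the span of the
previous ones. -/
theorem indep_of_forall {S : M →ₗ[F] M} {m : M} {N : ℕ}
    (h : ∀ k < N, (S ^ k) m ∉ Submodule.span F (Set.range fun i : Fin k => (S ^ (i : ℕ)) m)) :
    ∀ k ≤ N, LinearIndependent F (fun i : Fin k => (S ^ (i : ℕ)) m) := by
  intro k
  induction k with
  | zero => intro _; exact linearIndependent_empty_type
  | succ k ih =>
    intro hk
    rw [linearIndependent_finSucc']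
    refine ⟨ih (by omega), ?_⟩
    have := h k (by omega)
    simpa [Fin.init_def] using this

/-- A vector whose first `N` images are independent, `N` the dimension, is cyclic. -/
theorem cyclic_top {S : M →ₗ[F] M} {m : M} {N : ℕ} (hN : finrank F M = N)
    (hli : LinearIndependent F (fun i : Fin N => (S ^ (i : ℕ)) m))
    (U : Submodule F M) (hm : m ∈ U) (hU : U.map S ≤ U) : U = ⊤ := by
  have hmem : ∀ i : ℕ, (S ^ i) m ∈ U := by
    intro i
    induction i with
    | zero => simpa using hm
    | succ i ih =>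
      rw [pow_succ', Module.End.mul_apply]
      exact hU (Submodule.mem_map_of_mem ih)
  have hspan := hli.span_eq_top_of_card_eq_finrank' (by simp [hN])
  rw [eq_top_iff, ← hspan, Submodule.span_le]
  rintro _ ⟨i, rfl⟩
  exact hmem i

/-- **Pole placement.** -/
theorem pole (S : M →ₗ[F] M) (φ : M →ₗ[F] F)
    (hobs : ∀ U : Submodule F M, U ≤ LinearMap.ker φ → U.map S ≤ U → U = ⊥)
    {p : F[X]} (hp : p.Monic) (hdeg : p.natDegree = finrank F M) :
    ∃ ζ : M, (S + φ.smulRight ζ).charpoly = p ∧
      ∃ m : M, LinearIndependent F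
        (fun i : Fin (finrank F M) => ((S + φ.smulRight ζ) ^ (i : ℕ)) m) := by
  obtain ⟨N, hN⟩ : ∃ N, finrank F M = N := ⟨_, rfl⟩
  rw [hN] at hdeg ⊢
  rcases Nat.eq_zero_or_pos N with rfl | hpos
  · refine ⟨0, ?_, 0, linearIndependent_empty_type⟩
    rw [hp.natDegree_eq_zero.mp hdeg]
    refine ((S + φ.smulRight 0).charpoly_monic.natDegree_eq_zero).mp ?_
    rw [LinearMap.charpoly_natDegree, hN]
  obtain ⟨n, rfl⟩ : ∃ n, N = n + 1 := ⟨N - 1, by omega⟩
  -- the vector `m`
  let Φ : M →ₗ[F] (Fin n → F) := LinearMap.pi fun i => φ ∘ₗ (S ^ (i : ℕ))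
  have hker : LinearMap.ker Φ ≠ ⊥ := LinearMap.ker_ne_bot_of_finrank_lt (by simp [hN])
  obtain ⟨m, hmker, hm0⟩ := (Submodule.ne_bot_iff _).mp hker
  have hφ : ∀ i < n, φ ((S ^ i) m) = 0 := by
    intro i hi
    have := congrFun (LinearMap.mem_ker.mp hmker) ⟨i, hi⟩
    simpa [Φ] using this
  have hnot : ∀ k < n + 1,
      (S ^ k) m ∉ Submodule.span F (Set.range fun i : Fin k => (S ^ (i : ℕ)) m) := by
    intro k hk hin
    rcases Nat.eq_zero_or_pos k with rfl | hk0
    · simp at hin; exact hm0 hin
    have hbot : Submodule.span F (Set.range fun i : Fin k => (S ^ (i : ℕ)) m) = ⊥ := by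
      apply hobs
      · rw [Submodule.span_le]
        rintro _ ⟨i, rfl⟩
        exact hφ i (by have := i.2; omega)
      · rw [Submodule.map_span, Submodule.span_le]
        rintro _ ⟨_, ⟨i, rfl⟩, rfl⟩
        have he : S ((S ^ (i : ℕ)) m) = (S ^ ((i : ℕ) + 1)) m := by
          rw [pow_succ', Module.End.mul_apply]
        change S ((S ^ (i : ℕ)) m) ∈ _
        rw [he]
        rcases Nat.lt_or_ge ((i : ℕ) + 1) k with h1 | h1
        · exact Submodule.subset_span ⟨⟨(i : ℕ) + 1, h1⟩, rfl⟩
        · have : (i : ℕ) + 1 = k := by have := i.2; omega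
          rw [this]; exact hin
    have : m ∈ Submodule.span F (Set.range fun i : Fin k => (S ^ (i : ℕ)) m) :=
      Submodule.subset_span ⟨⟨0, hk0⟩, by simp⟩
    rw [hbot, Submodule.mem_bot] at this
    exact hm0 this
  have hli := indep_of_forall hnot (n + 1) le_rfl
  have hφn : φ ((S ^ n) m) ≠ 0 := by
    intro h0
    have hspan := hli.span_eq_top_of_card_eq_finrank' (by simp [hN])
    have htop : (⊤ : Submodule F M) ≤ LinearMap.ker φ := by
      rw [← hspan, Submodule.span_le]
      rintro _ ⟨i, rfl⟩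
      rcases Nat.lt_or_ge (i : ℕ) n with h1 | h1
      · exact hφ i h1
      · have : (i : ℕ) = n := by have := i.2; omega
        change φ ((S ^ (i : ℕ)) m) = 0
        rw [this]; exact h0
    have hb := hobs ⊤ htop le_top
    have : m ∈ (⊤ : Submodule F M) := trivial
    rw [hb, Submodule.mem_bot] at this
    exact hm0 this
  refine ⟨-((φ ((S ^ n) m))⁻¹ • (aeval S p m)), ?_⟩
  obtain ⟨ζ, hζ⟩ : ∃ ζ, ζ = -((φ ((S ^ n) m))⁻¹ • (aeval S p m)) := ⟨_, rfl⟩
  rw [← hζ]
  obtain ⟨S', hS'⟩ : ∃ S', S' = S + φ.smulRight ζ := ⟨_, rfl⟩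
  rw [← hS']
  have hS'v : ∀ v, S' v = S v + φ v • ζ := by intro v; rw [hS']; simp
  have hpow : ∀ i ≤ n, (S' ^ i) m = (S ^ i) m := by
    intro i
    induction i with
    | zero => intro _; simp
    | succ i ih =>
      intro hi
      rw [pow_succ', Module.End.mul_apply, ih (by omega), hS'v, hφ i (by omega), zero_smul,
        add_zero, pow_succ', Module.End.mul_apply]
  have hpown : (S' ^ (n + 1)) m = (S ^ (n + 1)) m - aeval S p m := by
    rw [pow_succ', Module.End.mul_apply, hpow n le_rfl, hS'v, hζ, smul_neg, smul_smul,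
      mul_inv_cancel₀ hφn, one_smul, pow_succ', Module.End.mul_apply, sub_eq_add_neg]
  have hpm : aeval S' p m = 0 := by
    have h1 : aeval S' p m = ∑ i ∈ Finset.range (n + 1), p.coeff i • (S' ^ i) m
        + (S' ^ (n + 1)) m := by
      rw [aeval_eq_sum_range' (n := n + 2) (by omega), Finset.sum_range_succ,
        ← hdeg, coeff_natDegree, hp.leadingCoeff]
      simp
    have h2 : aeval S p m = ∑ i ∈ Finset.range (n + 1), p.coeff i • (S ^ i) m
        + (S ^ (n + 1)) m := by
      rw [aeval_eq_sum_range' (n := n + 2) (by omega), Finset.sum_range_succ,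
        ← hdeg, coeff_natDegree, hp.leadingCoeff]
      simp
    have h3 : ∑ i ∈ Finset.range (n + 1), p.coeff i • (S' ^ i) m
        = ∑ i ∈ Finset.range (n + 1), p.coeff i • (S ^ i) m :=
      Finset.sum_congr rfl fun i hi => by
        rw [hpow i (by have := Finset.mem_range.mp hi; omega)]
    rw [h1, h3, hpown, h2]
    abel
  have hli' : LinearIndependent F (fun i : Fin (n + 1) => (S' ^ (i : ℕ)) m) := by
    convert hli using 2 with i
    exact hpow i (by have := i.2; omega)
  refine ⟨?_, m, hli'⟩
  -- the difference has small degree and kills `m`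
  have hdc : S'.charpoly.natDegree = n + 1 := by rw [LinearMap.charpoly_natDegree, hN]
  have hlt : (S'.charpoly - p).degree < (n + 1 : ℕ) := by
    have hdd : S'.charpoly.degree = p.degree := by
      rw [degree_eq_natDegree S'.charpoly_monic.ne_zero, degree_eq_natDegree hp.ne_zero, hdc, hdeg]
    have := degree_sub_lt_left hdd S'.charpoly_monic.ne_zero
      (by rw [hp.leadingCoeff, S'.charpoly_monic.leadingCoeff])
    rwa [degree_eq_natDegree S'.charpoly_monic.ne_zero, hdc] at this
  have hkill : aeval S' (S'.charpoly - p) m = 0 := by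
    rw [map_sub, LinearMap.aeval_self_charpoly, LinearMap.sub_apply, hpm]; simp
  by_contra hne
  have hne' : S'.charpoly - p ≠ 0 := sub_ne_zero.mpr hne
  have hnat : (S'.charpoly - p).natDegree < n + 1 := by
    rw [degree_eq_natDegree hne'] at hlt; exact_mod_cast hlt
  rw [aeval_eq_sum_range' hnat] at hkill
  have hkill' : ∑ i : Fin (n + 1), (S'.charpoly - p).coeff (i : ℕ) • (S' ^ (i : ℕ)) m = 0 := by
    rw [← hkill, LinearMap.sum_apply, Fin.sum_univ_eq_sum_range
      (fun i => (S'.charpoly - p).coeff i • (S' ^ i) m) (n + 1)]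
    rfl
  have hall := Fintype.linearIndependent_iff.mp hli' _ hkill'
  apply hne'
  ext i
  rw [coeff_zero]
  rcases Nat.lt_or_ge i (n + 1) with h1 | h1
  · exact hall ⟨i, h1⟩
  · exact coeff_eq_zero_of_natDegree_lt (by omega)

end Cfsg.Agent.H962.PP
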