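import Mathlib

/-!
# Products of two elements with prescribed irreducible characteristic polynomials: the slice of a cyclic element

* `charpoly_of_kill` : an irreducible polynomial of degree `dim V` that kills a vector is the characteristic polynomial;
* `frame` : `A = Y X`, `X` the companion map of `f` in a basis `ε`;
* `slice_cyc` : `1 + S`, `S` cyclic.
-/

set_option autoImplicit false

namespace Cfsg.Agent.H962.PP

open Polynomial

universe u v

variable {F : Type u} [Field F] {V : Type v} [AddCommGroup V] [Module F V] [FiniteDimensional F V]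

theorem charpoly_of_kill (T : Module.End F V) {f : F[X]} (hf : f.Monic) (hfi : Irreducible f)
    (hfd : f.natDegree = Module.finrank F V) {v : V} (hv : v ≠ 0) (h : aeval T f v = 0) :
    LinearMap.charpoly T = f := by
  have h1 : f ∣ minpoly F T := by
    by_contra hc
    obtain ⟨a, b, hab⟩ := (hfi.coprime_iff_not_dvd).2 hc
    apply hv
    have h2 : aeval T (a * f + b * minpoly F T) v = v := by
      rw [hab, map_one]; rfl
    rw [map_add, map_mul, map_mul, minpoly.aeval, mul_zero, add_zero, Module.End.mul_apply, h, map_zero] at h2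
    exact h2.symm
  have h2 : f ∣ LinearMap.charpoly T := h1.trans (LinearMap.minpoly_dvd_charpoly T)
  refine (eq_of_monic_of_dvd_of_natDegree_le hf (LinearMap.charpoly_monic T) h2 ?_)
  rw [LinearMap.charpoly_natDegree, hfd]

/-- the frame of a slice -/
theorem frame {k : ℕ} (hV : Module.finrank F V = k + 2) (ε : ℕ → V)
    (hs : ⊤ ≤ Submodule.span F (Set.range fun i : Fin (k + 2) => ε i))
    {f : F[X]} (hf : f.Monic) (hfi : Irreducible f) (hfd : f.natDegree = k + 2) (A : Module.End F V) :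
    ∃ X Y : Module.End F V, Y * X = A ∧ LinearMap.charpoly X = f ∧ (∀ i ≤ k, Y (ε (i + 1)) = A (ε i)) ∧
      Y (∑ i ∈ Finset.range (k + 2), f.coeff i • ε i) = -A (ε (k + 1)) ∧ ∀ i < k + 2, ε i ≠ 0 := by
  classical
  let b := basisOfTopLeSpanOfCardEqFinrank (fun i : Fin (k + 2) => ε i) hs (by simp [hV])
  have hb : ∀ i : Fin (k + 2), b i = ε i := fun i => by
    simp [b, coe_basisOfTopLeSpanOfCardEqFinrank]
  have hne : ∀ i < k + 2, ε i ≠ 0 := fun i hi => by
    have := b.ne_zero ⟨i, hi⟩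
    rwa [hb] at this
  let X : Module.End F V := b.constr F fun i => if (i : ℕ) ≤ k then ε (i + 1)
    else -∑ i ∈ Finset.range (k + 2), f.coeff i • ε i
  have hX1 : ∀ i ≤ k, X (ε i) = ε (i + 1) := by
    intro i hi
    have h1 := b.constr_basis F (fun i : Fin (k + 2) => if (i : ℕ) ≤ k then ε (i + 1)
      else -∑ i ∈ Finset.range (k + 2), f.coeff i • ε i) ⟨i, by omega⟩
    rw [hb] at h1
    exact h1.trans (if_pos hi)
  have hX2 : X (ε (k + 1)) = -∑ i ∈ Finset.range (k + 2), f.coeff i • ε i := by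
    have h1 := b.constr_basis F (fun i : Fin (k + 2) => if (i : ℕ) ≤ k then ε (i + 1)
      else -∑ i ∈ Finset.range (k + 2), f.coeff i • ε i) ⟨k + 1, by omega⟩
    rw [hb] at h1
    exact h1.trans (if_neg (by simp))
  have hpow : ∀ i ≤ k + 1, (X ^ i) (ε 0) = ε i := by
    intro i
    induction i with
    | zero => intro _; rfl
    | succ i ih =>
      intro hi
      rw [pow_succ', Module.End.mul_apply, ih (by omega), hX1 i (by omega)]
  have hcp : LinearMap.charpoly X = f := by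
    refine charpoly_of_kill X hf hfi (by rw [hfd, hV]) (hne 0 (by omega)) ?_
    rw [aeval_eq_sum_range, LinearMap.sum_apply, hfd, Finset.sum_range_succ]
    have h1 : f.coeff (k + 2) = 1 := by rw [← hfd]; exact hf.coeff_natDegree
    rw [h1, one_smul, pow_succ', Module.End.mul_apply, hpow (k + 1) le_rfl, hX2]
    rw [show ∑ i ∈ Finset.range (k + 2), (f.coeff i • X ^ i) (ε 0) = ∑ i ∈ Finset.range (k + 2), f.coeff i • ε i from
      Finset.sum_congr rfl fun i hi => by
        rw [LinearMap.smul_apply, hpow i (by have := Finset.mem_range.1 hi; omega)]]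
    rw [add_neg_cancel]
  have hf0 : f.coeff 0 ≠ 0 := by
    intro h0
    have h2 : (Polynomial.X : F[X]) ∣ f := X_dvd_iff.2 h0
    have h3 := (hfi.dvd_iff.1 h2).resolve_left not_isUnit_X
    have h4 := natDegree_eq_of_degree_eq (degree_eq_degree_of_associated h3)
    rw [natDegree_X] at h4
    omega
  have hdet : LinearMap.det X ≠ 0 := by
    rw [LinearMap.det_eq_sign_charpoly_coeff, hcp]
    exact mul_ne_zero (pow_ne_zero _ (by simp)) hf0
  obtain ⟨e, he⟩ : ∃ e : V ≃ₗ[F] V, ∀ v, e v = X v := ⟨LinearMap.equivOfDetNeZero X hdet, fun _ => rfl⟩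
  have hse : ∀ v, e.symm (X v) = v := fun v => by rw [← he, e.symm_apply_apply]
  refine ⟨X, A * (e.symm : V →ₗ[F] V), ?_, hcp, ?_, ?_, hne⟩
  · apply LinearMap.ext
    intro v
    rw [Module.End.mul_apply, Module.End.mul_apply]
    exact congrArg A (hse v)
  · intro i hi
    rw [Module.End.mul_apply, ← hX1 i hi]
    exact congrArg A (hse _)
  · have h1 : ∑ i ∈ Finset.range (k + 2), f.coeff i • ε i = X (-ε (k + 1)) := by
      rw [map_neg, hX2, neg_neg]
    rw [h1, Module.End.mul_apply, ← map_neg]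
    exact congrArg A (hse _)

/-! ### Polynomials and reversed sums -/

theorem degree_rev (a : ℕ → F) (n : ℕ) : (∑ i ∈ Finset.range n, C (a i) * X ^ (n - 1 - i) : F[X]).degree < n := by
  have h : (∑ i ∈ Finset.range n, C (a i) * X ^ (n - 1 - i) : F[X]) ∈ degreeLT F n := by
    refine Submodule.sum_mem _ fun i hi => ?_
    rw [mem_degreeLT]
    have := Finset.mem_range.1 hi
    exact (degree_C_mul_X_pow_le _ _).trans_lt (by exact_mod_cast (by omega : n - 1 - i < n))
  exact mem_degreeLT.1 h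

section Rev

variable {W : Type*} [AddCommGroup W] [Module F[X] W]

theorem sum_of_lt {β : F[X]} {n : ℕ} (hβ : β.degree < n) : ∑ j ∈ Finset.range n, C (β.coeff j) * X ^ j = β := by
  have h : β ∈ degreeLT F n := mem_degreeLT.2 hβ
  ext m
  rw [finsetSum_coeff]
  simp only [coeff_C_mul, coeff_X_pow, mul_ite, mul_one, mul_zero]
  rw [Finset.sum_ite_eq]
  split_ifs with hm
  · rfl
  · rw [Finset.mem_range, not_lt] at hm
    exact (coeff_eq_zero_of_degree_lt (lt_of_lt_of_le hβ (by exact_mod_cast hm))).symm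

theorem rev_sum {β : F[X]} {k : ℕ} (hβ : β.degree < (k + 1 : ℕ)) {ε : ℕ → W} {u : W}
    (h : ∀ j ≤ k, ε (k - j) = (X ^ j : F[X]) • u) :
    ∑ i ∈ Finset.range (k + 1), (C (β.coeff (k - i)) : F[X]) • ε i = β • u := by
  conv_rhs => rw [← sum_of_lt hβ, Finset.sum_smul]
  rw [← Finset.sum_range_reflect]
  refine Finset.sum_congr rfl fun j hj => ?_
  have := Finset.mem_range.1 hj
  rw [show k + 1 - 1 - j = k - j by omega, show k - (k - j) = j by omega, h j (by omega), mul_smul]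

theorem rev_sum' {β : F[X]} {k : ℕ} (hβ : β.degree < (k + 1 : ℕ)) {ε : ℕ → W} {u : W}
    (h : ∀ j ≤ k, ε (k - j) = (X ^ j : F[X]) • u) :
    ∑ i ∈ Finset.range k, (C (β.coeff (k - i)) : F[X]) • ε (i + 1) = (divX β) • u := by
  have hd : (divX β).degree < (k : ℕ) := by
    rw [degree_lt_iff_coeff_zero]
    intro m hm
    rw [coeff_divX]
    exact coeff_eq_zero_of_degree_lt (lt_of_lt_of_le hβ (by exact_mod_cast (by omega : k + 1 ≤ m + 1)))
  conv_rhs => rw [← sum_of_lt hd, Finset.sum_smul]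
  rw [← Finset.sum_range_reflect]
  refine Finset.sum_congr rfl fun j hj => ?_
  have := Finset.mem_range.1 hj
  rw [show k - (k - 1 - j) = j + 1 by omega, show k - 1 - j + 1 = k - j by omega, h j (by omega), coeff_divX, mul_smul]

theorem rev_sum_const {a : ℕ → F} {k : ℕ} {ε : ℕ → W} {u : W}
    (h : ∀ j ≤ k, ε (k - j) = (X ^ j : F[X]) • u) :
    ∑ i ∈ Finset.range (k + 1), (C (a i) : F[X]) • ε i = (∑ i ∈ Finset.range (k + 1), C (a i) * X ^ (k - i)) • u := by
  rw [Finset.sum_smul]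
  refine Finset.sum_congr rfl fun i hi => ?_
  have := Finset.mem_range.1 hi
  have h1 := h (k - i) (by omega)
  rw [show k - (k - i) = i by omega] at h1
  rw [h1, mul_smul]

end Rev

/-- the algebra of the cyclic slice -/
theorem comb_cyc {R : Type*} [CommRing R] {W : Type*} [AddCommGroup W] [Module R W] {X φ δ β1 bk d' f' : R} {u y : W}
    (E2 : X • y = u - (β1 * X + bk) • u)
    (E3 : (X + 1) • (φ • u + f' • y) +
      ((1 - d') • (y - (β1 * X + bk) • u) - δ • u + (X + 1) • (β1 • u + bk • y)) = 0) :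
    (((1 - d') + (X + 1) * f' + X * ((X + 1) * φ - δ) - (bk + f' - d') * (X + 1) * (β1 * X + bk))) • u = 0 := by
  linear_combination (norm := module) X • E3 - ((1 - d') + (X + 1) * (bk + f')) • E2

theorem mul_mem_degreeLT {m n N : ℕ} {p q : F[X]} (hp : p.degree ≤ (m : ℕ)) (hq : q ∈ degreeLT F n) (h : m + n = N) :
    p * q ∈ degreeLT F N := by
  rw [mem_degreeLT] at hq ⊢
  rcases eq_or_ne p 0 with rfl | hp0
  · rw [zero_mul, degree_zero]; exact WithBot.bot_lt_coe _
  rw [degree_mul, ← h]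
  push_cast
  refine (add_le_add_left hp _).trans_lt ?_
  exact WithBot.add_lt_add_left (WithBot.natCast_ne_bot m) hq

theorem C_mem_degreeLT {n : ℕ} (a : F) (hn : 0 < n) : (C a : F[X]) ∈ degreeLT F n :=
  mem_degreeLT.2 (degree_C_le.trans_lt (by exact_mod_cast hn))

theorem CX_mem_degreeLT {n : ℕ} (a : F) (hn : 1 < n) : (C a * X : F[X]) ∈ degreeLT F n := by
  have := degree_C_mul_X_pow_le 1 a
  rw [pow_one] at this
  exact mem_degreeLT.2 (this.trans_lt (by exact_mod_cast hn))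

theorem degree_X_one : (X + 1 : F[X]).degree = (1 : ℕ) := by
  rw [show (X + 1 : F[X]) = X + C 1 by rw [C_1], degree_X_add_C]; rfl

theorem degree_XX_one : (X * (X + 1) : F[X]).degree = (2 : ℕ) := by
  rw [degree_mul, degree_X, degree_X_one]; rfl

theorem degree_num {k : ℕ} {f g ψ : F[X]} (hgm : g.Monic) (hgd : g.natDegree = k + 2)
    (hψ : (ψ - X * (X + 1) * ∑ i ∈ Finset.range (k + 1), C (f.coeff i) * X ^ (k - i)) ∈ degreeLT F (k + 2)) :
    (ψ - C (f.coeff 0) * g.comp (X + 1)) ∈ degreeLT F (k + 2) := by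
  have h1 : (X * (X + 1) * (∑ i ∈ Finset.range k, C (f.coeff (i + 1)) * X ^ (k - (i + 1))) : F[X]) ∈
      degreeLT F (k + 2) := by
    refine mul_mem_degreeLT degree_XX_one.le (n := k) ?_ (by ring)
    rw [show ∑ i ∈ Finset.range k, C (f.coeff (i + 1)) * X ^ (k - (i + 1)) =
        ∑ i ∈ Finset.range k, C (f.coeff (i + 1)) * X ^ (k - 1 - i) from Finset.sum_congr rfl fun i _ => by
          rw [show k - (i + 1) = k - 1 - i by omega]]
    exact mem_degreeLT.2 (degree_rev (fun i => f.coeff (i + 1)) k)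
  have h2 : (X + 1 : F[X]).Monic := by rw [show (X + 1 : F[X]) = X + C 1 by rw [C_1]]; exact monic_X_add_C 1
  have h3 : (X + 1 : F[X]).natDegree = 1 := natDegree_eq_of_degree_eq_some degree_X_one
  have h4 : (X ^ (k + 1) * (X + 1) - g.comp (X + 1) : F[X]) ∈ degreeLT F (k + 2) := by
    rw [mem_degreeLT]
    have h5 : (X ^ (k + 1) * (X + 1) : F[X]).Monic := (monic_X_pow _).mul h2
    have h6 : (g.comp (X + 1)).Monic := hgm.comp h2 (by rw [h3]; norm_num)
    have h7 : (X ^ (k + 1) * (X + 1) : F[X]).degree = (k + 2 : ℕ) := by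
      rw [degree_eq_natDegree h5.ne_zero, (monic_X_pow _).natDegree_mul h2, natDegree_X_pow, h3]
    have h8 : (g.comp (X + 1)).degree = (k + 2 : ℕ) := by
      rw [degree_eq_natDegree h6.ne_zero, natDegree_comp, h3, hgd, mul_one]
    have h9 := degree_sub_lt_left (h7.trans h8.symm) h5.ne_zero (by rw [h5.leadingCoeff, h6.leadingCoeff])
    rwa [h7] at h9
  have h5 : (C (f.coeff 0) * (X ^ (k + 1) * (X + 1) - g.comp (X + 1)) : F[X]) ∈ degreeLT F (k + 2) := by
    rw [← smul_eq_C_mul]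
    exact Submodule.smul_mem _ _ h4
  have h6 : ψ - C (f.coeff 0) * g.comp (X + 1) =
    (ψ - X * (X + 1) * ∑ i ∈ Finset.range (k + 1), C (f.coeff i) * X ^ (k - i)) +
    (X * (X + 1) * (∑ i ∈ Finset.range k, C (f.coeff (i + 1)) * X ^ (k - (i + 1))) +
      C (f.coeff 0) * (X ^ (k + 1) * (X + 1) - g.comp (X + 1))) := by
    rw [Finset.sum_range_succ', Nat.sub_zero, pow_succ]
    ring
  rw [h6]
  exact add_mem hψ (add_mem h1 h5)

/-- **the slice of a cyclic element** -/
theorem slice_cyc {k : ℕ} (hV : Module.finrank F V = k + 2) (A : Module.End F V) {v0 : V}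
    (hs : ⊤ ≤ Submodule.span F (Set.range fun i : Fin (k + 2) => ((A - 1) ^ (i : ℕ)) v0))
    {d : F[X]} (hd : d.Monic) (hdd : d.natDegree = k + 2) (hd0 : aeval (A - 1) d v0 = 0)
    {f g : F[X]} (hf : f.Monic) (hfi : Irreducible f) (hfd : f.natDegree = k + 2)
    (hg : g.Monic) (hgi : Irreducible g) (hgd : g.natDegree = k + 2) {c : F} (hc : c ≠ 0)
    (h0 : 1 - d.coeff (k + 1) + ∑ i ∈ Finset.range (k + 1), d.coeff i * (-1) ^ (k - i) = f.coeff 0 * g.coeff 0)
    (h1 : (1 + c) * (1 + f.coeff (k + 1) - d.coeff (k + 1) - c) = f.coeff 0 * g.eval 1) :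
    ∃ X Y : Module.End F V, Y * X = A ∧ LinearMap.charpoly X = f ∧ LinearMap.charpoly Y = g := by
  classical
  obtain ⟨S, hS⟩ : ∃ S, S = A - 1 := ⟨_, rfl⟩
  rw [← hS] at hs hd0
  have hA : ∀ v, A v = v + S v := fun v => by rw [hS]; simp
  obtain ⟨φ, hφ⟩ : ∃ φ : F[X], φ = ∑ i ∈ Finset.range (k + 1), C (f.coeff i) * X ^ (k - i) := ⟨_, rfl⟩
  obtain ⟨δ, hδ⟩ : ∃ δ : F[X], δ = ∑ i ∈ Finset.range (k + 1), C (d.coeff i) * X ^ (k - i) := ⟨_, rfl⟩
  have hδd : δ ∈ degreeLT F (k + 1) := by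
    rw [hδ]; exact mem_degreeLT.2 (degree_rev (fun i => d.coeff i) (k + 1))
  obtain ⟨ψ, hψ⟩ : ∃ ψ : F[X], ψ = (1 - C (d.coeff (k + 1))) + (X + 1) * C (f.coeff (k + 1)) + X * ((X + 1) * φ - δ) :=
    ⟨_, rfl⟩
  have hN1 : (ψ - C (f.coeff 0) * g.comp (X + 1)) ∈ degreeLT F (k + 2) := by
    refine degree_num hg hgd ?_
    have e1 : ψ - X * (X + 1) * φ = (C (1 - d.coeff (k + 1)) + C (f.coeff (k + 1))) + (C (f.coeff (k + 1)) * X - X * δ) := by
      rw [hψ, C_sub, C_1]; ring
    rw [← hφ, e1]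
    refine add_mem (add_mem (C_mem_degreeLT _ (by omega)) (C_mem_degreeLT _ (by omega))) (sub_mem (CX_mem_degreeLT _ (by omega)) ?_)
    exact mul_mem_degreeLT (by rw [degree_X]; rfl) hδd (by ring)
  have hN2 : (ψ - C (f.coeff 0) * g.comp (X + 1)).IsRoot (-1) := by
    rw [IsRoot.def, eval_sub, eval_mul, eval_C, eval_comp, eval_add, eval_X, eval_one, neg_add_cancel, ← coeff_zero_eq_eval_zero,
      ← h0, hψ, hδ]
    simp [eval_finsetSum]
  obtain ⟨β0, hβ0⟩ := dvd_iff_isRoot.2 hN2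
  rw [show (X - C (-1) : F[X]) = X + 1 by rw [C_neg, C_1, sub_neg_eq_add]] at hβ0
  have hβ0d : β0 ∈ degreeLT F (k + 1) := by
    rw [mem_degreeLT] at hN1 ⊢
    rw [hβ0, degree_mul, degree_X_one, show ((k + 2 : ℕ) : WithBot ℕ) = (1 : ℕ) + (k + 1 : ℕ) by push_cast; ring] at hN1
    exact lt_of_add_lt_add_left hN1
  obtain ⟨β, hβ⟩ : ∃ β : F[X], β = C c⁻¹ * β0 := ⟨_, rfl⟩
  have hβd : β ∈ degreeLT F (k + 1) := by
    rw [hβ, ← smul_eq_C_mul]; exact Submodule.smul_mem _ _ hβ0d
  have hcβ : C c * β = β0 := by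
    rw [hβ, ← mul_assoc, ← C_mul, mul_inv_cancel₀ hc, C_1, one_mul]
  have hβv : β.coeff 0 = c + d.coeff (k + 1) - f.coeff (k + 1) := by
    have e1 := congrArg (eval 0) hβ0
    rw [eval_sub, eval_mul, eval_C, eval_comp, eval_add, eval_X, eval_one, zero_add, eval_mul, eval_add, eval_X, eval_one,
      zero_add, one_mul, ← hcβ, eval_mul, eval_C, ← h1, hψ] at e1
    simp only [eval_add, eval_sub, eval_mul, eval_C, eval_X, eval_one, zero_mul, add_zero, zero_add, one_mul] at e1
    rw [coeff_zero_eq_eval_zero]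
    refine mul_left_cancel₀ hc (e1.symm.trans ?_)
    ring
  obtain ⟨ε, hε1, hε2⟩ : ∃ ε : ℕ → V, (∀ i ≤ k, ε i = (S ^ i) v0) ∧
      ε (k + 1) = (S ^ (k + 1)) v0 + ∑ i ∈ Finset.range (k + 1), β.coeff (k - i) • (S ^ i) v0 :=
    ⟨fun i => if i ≤ k then (S ^ i) v0 else (S ^ (k + 1)) v0 + ∑ i ∈ Finset.range (k + 1), β.coeff (k - i) • (S ^ i) v0,
      fun i hi => if_pos hi, if_neg (by omega)⟩
  have hs' : ⊤ ≤ Submodule.span F (Set.range fun i : Fin (k + 2) => ε i) := by
    refine hs.trans (Submodule.span_le.2 ?_)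
    rintro _ ⟨i, rfl⟩
    have h2 : ∀ i ≤ k, (S ^ i) v0 ∈ Submodule.span F (Set.range fun i : Fin (k + 2) => ε i) := fun i hi =>
      Submodule.subset_span ⟨⟨i, by omega⟩, hε1 i hi⟩
    by_cases hi : (i : ℕ) ≤ k
    · exact h2 _ hi
    · have h3 : (i : ℕ) = k + 1 := by omega
      change (S ^ (i : ℕ)) v0 ∈ _
      rw [h3, show (S ^ (k + 1)) v0 = ε (k + 1) - ∑ i ∈ Finset.range (k + 1), β.coeff (k - i) • (S ^ i) v0 by
        rw [hε2, add_sub_cancel_right]]
      exact sub_mem (Submodule.subset_span ⟨⟨k + 1, by omega⟩, rfl⟩)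
        (Submodule.sum_mem _ fun i hi => Submodule.smul_mem _ _ (h2 i (by have := Finset.mem_range.1 hi; omega)))
  obtain ⟨XX, Y, hYX, hXc, hY1, hY2, hne⟩ := frame hV ε hs' hf hfi hfd A
  refine ⟨XX, Y, hYX, hXc, ?_⟩
  let _ : Module F[X] V := Module.compHom V (aeval (Y - 1) : F[X] →ₐ[F] Module.End F V).toRingHom
  have hsm : ∀ (p : F[X]) (v : V), p • v = aeval (Y - 1) p v := fun _ _ => rfl
  have hXs : ∀ v : V, (X : F[X]) • v = Y v - v := fun v => by rw [hsm, aeval_X]; rfl
  have hX1s : ∀ v : V, (X + 1 : F[X]) • v = Y v := fun v => by rw [add_smul, one_smul, hXs, sub_add_cancel]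
  have hCs : ∀ (a : F) (v : V), (C a : F[X]) • v = a • v := fun a v => by rw [hsm, aeval_C]; rfl
  obtain ⟨u, hu⟩ : ∃ u, u = ε k := ⟨_, rfl⟩
  obtain ⟨y, hy⟩ : ∃ y, y = ε (k + 1) := ⟨_, rfl⟩
  have hSε : ∀ i < k, S (ε i) = ε (i + 1) := fun i hi => by
    rw [hε1 i hi.le, hε1 (i + 1) hi, pow_succ', Module.End.mul_apply]
  have hM : ∀ i < k, (X : F[X]) • ε (i + 1) = ε i := fun i hi => by
    rw [hXs, hY1 i hi.le, hA, hSε i hi, add_sub_cancel_right]
  have hur : ∀ j ≤ k, ε (k - j) = (X ^ j : F[X]) • u := by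
    intro j
    induction j with
    | zero => intro _; rw [pow_zero, one_smul, Nat.sub_zero, hu]
    | succ j ih =>
      intro hj
      rw [pow_succ', mul_smul, ← ih (by omega), ← hM (k - (j + 1)) (by omega), show k - (j + 1) + 1 = k - j by omega]
  have hβs : ∑ i ∈ Finset.range (k + 1), β.coeff (k - i) • ε i = β • u := by
    rw [← rev_sum (mem_degreeLT.1 hβd) hur]
    exact Finset.sum_congr rfl fun i _ => (hCs _ _).symm
  have hβs' : ∑ i ∈ Finset.range (k + 1), β.coeff (k - i) • ε (i + 1) = divX β • u + (C (β.coeff 0) : F[X]) • y := by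
    rw [Finset.sum_range_succ, ← rev_sum' (mem_degreeLT.1 hβd) hur, hCs, Nat.sub_self, hy]
    congr 1
    exact Finset.sum_congr rfl fun i _ => (hCs _ _).symm
  have hφs : ∑ i ∈ Finset.range (k + 1), f.coeff i • ε i = φ • u := by
    rw [hφ, ← rev_sum_const hur]
    exact Finset.sum_congr rfl fun i _ => (hCs _ _).symm
  have hδs : ∑ i ∈ Finset.range (k + 1), d.coeff i • ε i = δ • u := by
    rw [hδ, ← rev_sum_const hur]
    exact Finset.sum_congr rfl fun i _ => (hCs _ _).symm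
  have hw : (S ^ (k + 1)) v0 = y - β • u := by
    rw [← hβs, hy, hε2]
    rw [show ∑ i ∈ Finset.range (k + 1), β.coeff (k - i) • (S ^ i) v0 = ∑ i ∈ Finset.range (k + 1), β.coeff (k - i) • ε i from
      Finset.sum_congr rfl fun i hi => by rw [hε1 i (by have := Finset.mem_range.1 hi; omega)]]
    abel
  have hSu : S u = y - β • u := by
    rw [← hw, hu, hε1 k le_rfl, ← Module.End.mul_apply, ← pow_succ']
  have hdx : (divX β * X + C (β.coeff 0) : F[X]) = β := divX_mul_X_add β
  have E2 : (X : F[X]) • y = u - (divX β * X + C (β.coeff 0) : F[X]) • u := by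
    rw [hdx, hXs, hy, hY1 k le_rfl, hA, ← hu, hSu, ← hy]
    abel
  have hSw : S ((S ^ (k + 1)) v0) = -(δ • u) - (C (d.coeff (k + 1)) : F[X]) • (y - β • u) := by
    have e1 := hd0
    rw [aeval_eq_sum_range, LinearMap.sum_apply, hdd, Finset.sum_range_succ, Finset.sum_range_succ] at e1
    have e2 : d.coeff (k + 2) = 1 := by rw [← hdd]; exact hd.coeff_natDegree
    rw [e2, one_smul, show S ^ (k + 2) = S * S ^ (k + 1) from pow_succ' _ _, Module.End.mul_apply] at e1
    rw [show ∑ i ∈ Finset.range (k + 1), (d.coeff i • S ^ i) v0 = δ • u by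
      rw [← hδs]
      exact Finset.sum_congr rfl fun i hi => by
        rw [LinearMap.smul_apply, hε1 i (by have := Finset.mem_range.1 hi; omega)]] at e1
    rw [LinearMap.smul_apply, ← hCs, hw] at e1
    rw [hw]
    rw [eq_neg_of_add_eq_zero_right e1]
    abel
  have hAy : A y = (1 - C (d.coeff (k + 1)) : F[X]) • (y - β • u) - δ • u + (X + 1 : F[X]) • (divX β • u +
      (C (β.coeff 0) : F[X]) • y) := by
    have e1 : y = (S ^ (k + 1)) v0 + ∑ i ∈ Finset.range (k + 1), β.coeff (k - i) • ε i := by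
      rw [hw, hβs]; abel
    have e2 : A (∑ i ∈ Finset.range (k + 1), β.coeff (k - i) • ε i) = (X + 1 : F[X]) • (divX β • u +
      (C (β.coeff 0) : F[X]) • y) := by
      rw [← hβs', hX1s, map_sum, map_sum]
      exact Finset.sum_congr rfl fun i hi => by
        rw [map_smul, map_smul, hY1 i (by have := Finset.mem_range.1 hi; omega)]
    conv_lhs => rw [e1]
    rw [map_add, e2, hA, hSw, hw, sub_smul, one_smul]
    abel
  have E3 : (X + 1 : F[X]) • (φ • u + (C (f.coeff (k + 1)) : F[X]) • y) +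
      ((1 - C (d.coeff (k + 1)) : F[X]) • (y - (divX β * X + C (β.coeff 0) : F[X]) • u) - δ • u + (X + 1 : F[X]) •
        (divX β • u + (C (β.coeff 0) : F[X]) • y)) = 0 := by
    rw [hdx, ← hAy, hy, ← hφs, hX1s, hCs, ← Finset.sum_range_succ, hY2, neg_add_cancel]
  have hP := comb_cyc E2 E3
  rw [hdx] at hP
  have hPe : (1 - C (d.coeff (k + 1))) + (X + 1) * C (f.coeff (k + 1)) + X * ((X + 1) * φ - δ) -
      (C (β.coeff 0) + C (f.coeff (k + 1)) - C (d.coeff (k + 1))) * (X + 1) * β = C (f.coeff 0) * g.comp (X + 1) := by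
    rw [← hψ, hβv, ← C_add, ← C_sub, show c + d.coeff (k + 1) - f.coeff (k + 1) + f.coeff (k + 1) - d.coeff (k + 1) = c by ring,
      show C c * (X + 1) * β = (X + 1) * (C c * β) by ring, hcβ, ← hβ0]
    ring
  rw [hPe, mul_smul, hCs, hsm] at hP
  have hf0 : f.coeff 0 ≠ 0 := by
    intro h0
    have h2 : (Polynomial.X : F[X]) ∣ f := X_dvd_iff.2 h0
    have h3 := (hfi.dvd_iff.1 h2).resolve_left not_isUnit_X
    have h4 := natDegree_eq_of_degree_eq (degree_eq_degree_of_associated h3)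
    rw [natDegree_X] at h4
    omega
  have hg1 := (smul_eq_zero.1 hP).resolve_left hf0
  rw [aeval_comp, map_add, aeval_X, map_one, sub_add_cancel] at hg1
  refine charpoly_of_kill Y hg hgi (by rw [hgd, hV]) ?_ hg1
  rw [hu]
  exact hne k (by omega)

end Cfsg.Agent.H962.PP
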