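import Cfsg.Agent.H962.PP.Slice1

/-!
# The slice of an element with two cyclic blocks
-/

set_option autoImplicit false

namespace Cfsg.Agent.H962.PP

open Polynomial

universe u v

variable {F : Type u} [Field F] {V : Type v} [AddCommGroup V] [Module F V] [FiniteDimensional F V]

/-- the algebra of the slice with two blocks -/
theorem comb_two {R : Type*} [CommRing R] {W : Type*} [AddCommGroup W] [Module R W]
    {X l φ1 φ2 δ β1 η β2 bk d' f' Xs : R} {u x y : W}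
    (E1 : l • x = ((X + 1) * Xs) • u)
    (E2 : X • y = u - (β1 * X + η) • x - (β2 * X + bk) • u)
    (E3 : (X + 1) • (φ1 • x + φ2 • u + f' • y) +
      ((1 - d') • (y - (β1 * X + η) • x - (β2 * X + bk) • u) - δ • u +
        (X + 1) • (β1 • x + (η * Xs) • u + (β2 • u + bk • y))) = 0) :
    ((X + 1) ^ 2 * Xs * (X * φ1 - η - (bk + f' - d') * (β1 * X + η)) +
      l * ((X + 1) * (X * φ2 + f' + η * X * Xs - (bk + f' - d') * (β2 * X + bk)) + (1 - d') - X * δ)) • u = 0 := by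
  linear_combination (norm := module) (l * X) • E3 - (l * ((1 - d') + (X + 1) * (bk + f'))) • E2 -
    ((X + 1) * (X * φ1 - η - (bk + f' - d') * (β1 * X + η))) • E1

theorem coprime_lin {l : F[X]} {a : F} (h : l.eval a ≠ 0) : IsCoprime l (X - C a) :=
  ((irreducible_X_sub_C a).coprime_iff_not_dvd.2 fun hd => h (dvd_iff_isRoot.1 hd)).symm

/-- the linear equation of the slice with two blocks -/
theorem exists_parts {ρ σ : ℕ} {l Q : F[X]} (hl : l ∈ degreeLT F (ρ + 1)) (hQ : Q ∈ degreeLT F (ρ + σ + 2))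
    (hl0 : l.eval 0 ≠ 0) (hl1 : l.eval (-1) ≠ 0) :
    ∃ H1 H2 : F[X], l * H2 + (X + 1) * X ^ σ * H1 = Q ∧ H1 ∈ degreeLT F (ρ + 1) ∧ H2 ∈ degreeLT F (σ + 1) := by
  obtain ⟨m, hm⟩ : ∃ m : F[X], m = (X + 1) * X ^ σ := ⟨_, rfl⟩
  have hX1 : (X + 1 : F[X]) = X - C (-1) := by rw [C_neg, C_1, sub_neg_eq_add]
  have hmm : m.Monic := by rw [hm, hX1]; exact (monic_X_sub_C _).mul (monic_X_pow σ)
  have hmd : m.degree = (σ + 1 : ℕ) := by
    rw [hm, degree_mul, degree_X_one, degree_X_pow]; push_cast; rw [add_comm]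
  have hco : IsCoprime l m := by
    rw [hm]
    refine IsCoprime.mul_right (by rw [hX1]; exact coprime_lin hl1) (IsCoprime.pow_right ?_)
    have := coprime_lin hl0
    rwa [C_0, sub_zero] at this
  obtain ⟨a, b, hab⟩ := hco
  refine ⟨l * ((a * Q) /ₘ m) + b * Q, (a * Q) %ₘ m, ?_, ?_, ?_⟩
  · have h1 := modByMonic_add_div (a * Q) m
    rw [← hm]
    calc l * ((a * Q) %ₘ m) + m * (l * ((a * Q) /ₘ m) + b * Q)
        = l * ((a * Q) %ₘ m + m * ((a * Q) /ₘ m)) + b * m * Q := by ring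
      _ = (a * l + b * m) * Q := by rw [h1]; ring
      _ = Q := by rw [hab, one_mul]
  · have h1 := modByMonic_add_div (a * Q) m
    have h2 : (a * Q) %ₘ m ∈ degreeLT F (σ + 1) := by
      rw [mem_degreeLT, ← hmd]; exact degree_modByMonic_lt _ hmm
    have h3 : m * (l * ((a * Q) /ₘ m) + b * Q) ∈ degreeLT F (ρ + σ + 2) := by
      have e1 : m * (l * ((a * Q) /ₘ m) + b * Q) = Q - l * ((a * Q) %ₘ m) := by
        rw [eq_sub_iff_add_eq]
        calc m * (l * ((a * Q) /ₘ m) + b * Q) + l * ((a * Q) %ₘ m)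
            = l * ((a * Q) %ₘ m + m * ((a * Q) /ₘ m)) + b * m * Q := by ring
          _ = (a * l + b * m) * Q := by rw [h1]; ring
          _ = Q := by rw [hab, one_mul]
      rw [e1]
      refine sub_mem hQ ?_
      have hl' : l.degree ≤ (ρ + 1 : ℕ) := (mem_degreeLT.1 hl).le
      exact mul_mem_degreeLT hl' h2 (by ring)
    rw [mem_degreeLT] at h3 ⊢
    rw [degree_mul, hmd, show ((ρ + σ + 2 : ℕ) : WithBot ℕ) = (σ + 1 : ℕ) + (ρ + 1 : ℕ) by push_cast; ring] at h3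
    exact lt_of_add_lt_add_left h3
  · rw [mem_degreeLT, ← hmd]; exact degree_modByMonic_lt _ hmm

theorem sum_split (a : ℕ → F) (ρ s : ℕ) :
    (∑ i ∈ Finset.range (ρ + 1 + s + 1), C (a i) * X ^ (ρ + 1 + s - i) : F[X]) =
      X ^ (s + 1) * (∑ i ∈ Finset.range (ρ + 1), C (a i) * X ^ (ρ - i)) +
        ∑ j ∈ Finset.range (s + 1), C (a (ρ + 1 + j)) * X ^ (s - j) := by
  rw [show ρ + 1 + s + 1 = (ρ + 1) + (s + 1) by ring, Finset.sum_range_add, Finset.mul_sum]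
  congr 1
  · refine Finset.sum_congr rfl fun i hi => ?_
    have := Finset.mem_range.1 hi
    rw [show ρ + 1 + s - i = s + 1 + (ρ - i) by omega, pow_add]
    ring
  · refine Finset.sum_congr rfl fun j hj => ?_
    rw [show ρ + 1 + s - (ρ + 1 + j) = s - j by omega]

/-- **the slice of an element with two blocks** -/
theorem slice_two {ρ σ : ℕ} (hV : Module.finrank F V = ρ + 1 + (σ + 1) + 2) (A : Module.End F V) {v1 v2 : V}
    (hs : ⊤ ≤ Submodule.span F (Set.range (fun i : Fin (ρ + 1) => ((A - 1) ^ (i : ℕ)) v1) ∪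
      Set.range fun i : Fin (σ + 3) => ((A - 1) ^ (i : ℕ)) v2))
    {p d : F[X]} (hp : p.Monic) (hpd : p.natDegree = ρ + 1) (hp0 : aeval (A - 1) p v1 = 0)
    (hd : d.Monic) (hdd : d.natDegree = σ + 3) (hd0 : aeval (A - 1) d v2 = 0)
    {f g : F[X]} (hf : f.Monic) (hfi : Irreducible f) (hfd : f.natDegree = ρ + 1 + (σ + 1) + 2)
    (hg : g.Monic) (hgi : Irreducible g) (hgd : g.natDegree = ρ + 1 + (σ + 1) + 2) {c : F} (hc : c ≠ 0)
    (hl0 : 1 - p.coeff ρ ≠ 0) (hl1 : 1 - ∑ i ∈ Finset.range (ρ + 1), p.coeff i * (-1) ^ (ρ - i) ≠ 0)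
    (hcl : 1 + c ≠ 1 - p.coeff ρ)
    (h0 : (1 - ∑ i ∈ Finset.range (ρ + 1), p.coeff i * (-1) ^ (ρ - i)) *
      (1 - d.coeff (σ + 2) + ∑ i ∈ Finset.range (σ + 2), d.coeff i * (-1) ^ (σ + 1 - i)) = f.coeff 0 * g.coeff 0)
    (h1 : (1 - p.coeff ρ) * (1 + c) * (1 + f.coeff (ρ + 1 + (σ + 1) + 1) - d.coeff (σ + 2) - c) =
      f.coeff 0 * g.eval 1) :
    ∃ X Y : Module.End F V, Y * X = A ∧ LinearMap.charpoly X = f ∧ LinearMap.charpoly Y = g := by
  classical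
  obtain ⟨S, hS⟩ : ∃ S, S = A - 1 := ⟨_, rfl⟩
  rw [← hS] at hs hd0 hp0
  have hA : ∀ v, A v = v + S v := fun v => by rw [hS]; simp
  obtain ⟨π, hπ⟩ : ∃ π : F[X], π = ∑ i ∈ Finset.range (ρ + 1), C (p.coeff i) * X ^ (ρ - i) := ⟨_, rfl⟩
  obtain ⟨φ1, hφ1⟩ : ∃ φ : F[X], φ = ∑ i ∈ Finset.range (ρ + 1), C (f.coeff i) * X ^ (ρ - i) := ⟨_, rfl⟩
  obtain ⟨φ2, hφ2⟩ : ∃ φ : F[X], φ = ∑ i ∈ Finset.range (σ + 2), C (f.coeff (ρ + 1 + i)) * X ^ (σ + 1 - i) := ⟨_, rfl⟩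
  obtain ⟨δ, hδ⟩ : ∃ δ : F[X], δ = ∑ i ∈ Finset.range (σ + 2), C (d.coeff i) * X ^ (σ + 1 - i) := ⟨_, rfl⟩
  have hπd : π ∈ degreeLT F (ρ + 1) := by
    rw [hπ]; exact mem_degreeLT.2 (degree_rev (fun i => p.coeff i) (ρ + 1))
  have hφ1d : φ1 ∈ degreeLT F (ρ + 1) := by
    rw [hφ1]; exact mem_degreeLT.2 (degree_rev (fun i => f.coeff i) (ρ + 1))
  have hφ2d : φ2 ∈ degreeLT F (σ + 2) := by
    rw [hφ2]; exact mem_degreeLT.2 (degree_rev (fun i => f.coeff (ρ + 1 + i)) (σ + 2))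
  have hδd : δ ∈ degreeLT F (σ + 2) := by
    rw [hδ]; exact mem_degreeLT.2 (degree_rev (fun i => d.coeff i) (σ + 2))
  obtain ⟨l, hl⟩ : ∃ l : F[X], l = 1 - π := ⟨_, rfl⟩
  have hld : l ∈ degreeLT F (ρ + 1) := by
    rw [hl, ← C_1]; exact sub_mem (C_mem_degreeLT _ (by omega)) hπd
  have hle0 : l.eval 0 = 1 - p.coeff ρ := by
    rw [hl, hπ, Finset.sum_range_succ]
    simp only [eval_sub, eval_one, eval_add, eval_finsetSum, eval_mul, eval_C, eval_pow, eval_X]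
    rw [Finset.sum_eq_zero, zero_add, Nat.sub_self, pow_zero, mul_one]
    intro i hi
    rw [zero_pow (by have := Finset.mem_range.1 hi; omega), mul_zero]
  have hle1 : l.eval (-1) = 1 - ∑ i ∈ Finset.range (ρ + 1), p.coeff i * (-1) ^ (ρ - i) := by
    rw [hl, hπ]
    simp [eval_finsetSum]
  rw [← hle1] at hl1 h0
  rw [← hle0] at hl0 hcl h1
  obtain ⟨f', hf'⟩ : ∃ f', f' = f.coeff (ρ + 1 + (σ + 1) + 1) := ⟨_, rfl⟩
  obtain ⟨d', hd'⟩ : ∃ d', d' = d.coeff (σ + 2) := ⟨_, rfl⟩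
  rw [← hf', ← hd'] at h1
  rw [← hd'] at h0
  obtain ⟨ψ, hψ⟩ : ∃ ψ : F[X], ψ = l * ((1 - C d') - X * δ) + (X + 1) * l * (C f' + X * φ2) +
      (X + 1) ^ 2 * X ^ (σ + 2) * φ1 := ⟨_, rfl⟩
  have hsub : ∀ {m n : ℕ}, m ≤ n → ∀ {q : F[X]}, q ∈ degreeLT F m → q ∈ degreeLT F n := fun h q hq =>
    mem_degreeLT.2 ((mem_degreeLT.1 hq).trans_le (by exact_mod_cast h))
  have hlρ : l.degree ≤ (ρ : ℕ) := by
    have := mem_degreeLT.1 hld
    rw [degree_lt_iff_coeff_zero] at this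
    exact (degree_le_iff_coeff_zero _ _).2 fun m hm => this m (by
      have : (ρ : WithBot ℕ) < m := hm
      have : ρ < m := by exact_mod_cast this
      omega)
  have hN1 : (ψ - C (f.coeff 0) * g.comp (X + 1)) ∈ degreeLT F (ρ + 1 + (σ + 1) + 2) := by
    refine degree_num hg hgd ?_
    rw [sum_split f.coeff ρ (σ + 1), ← hφ1, ← hφ2]
    have e1 : ψ - X * (X + 1) * (X ^ (σ + 1 + 1) * φ1 + φ2) = l * ((C (1 - d') + C f') + (C f' * X - X * δ)) +
        (X * (X + 1) * (l * φ2) + (((X + 1) * (X ^ (σ + 2) * φ1)) - X * (X + 1) * φ2)) := by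
      rw [hψ, C_sub, C_1]; ring
    rw [e1]
    refine add_mem ?_ (add_mem ?_ (sub_mem ?_ ?_))
    · refine hsub (by omega) (mul_mem_degreeLT (N := ρ + (σ + 3)) hlρ (n := σ + 3) ?_ (by ring))
      refine add_mem (add_mem (C_mem_degreeLT _ (by omega)) (C_mem_degreeLT _ (by omega)))
        (sub_mem (CX_mem_degreeLT _ (by omega)) ?_)
      exact mul_mem_degreeLT (by rw [degree_X]; rfl) hδd (by ring)
    · refine mul_mem_degreeLT degree_XX_one.le (n := ρ + (σ + 2)) (mul_mem_degreeLT hlρ hφ2d rfl) (by ring)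
    · refine hsub ?_ (mul_mem_degreeLT (N := 1 + (σ + 2 + (ρ + 1))) degree_X_one.le
        (mul_mem_degreeLT (degree_X_pow_le _) hφ1d rfl) rfl)
      omega
    · refine hsub ?_ (mul_mem_degreeLT (N := 2 + (σ + 2)) degree_XX_one.le hφ2d rfl)
      omega
  have hN2 : (ψ - C (f.coeff 0) * g.comp (X + 1)).IsRoot (-1) := by
    rw [IsRoot.def, eval_sub, eval_mul, eval_C, eval_comp, eval_add, eval_X, eval_one, neg_add_cancel, ← coeff_zero_eq_eval_zero,
      ← h0, hψ, hδ]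
    simp [eval_finsetSum]
  obtain ⟨N, hN⟩ := dvd_iff_isRoot.2 hN2
  rw [show (X - C (-1) : F[X]) = X + 1 by rw [C_neg, C_1, sub_neg_eq_add]] at hN
  have hNd : N ∈ degreeLT F (ρ + σ + 3) := by
    rw [mem_degreeLT] at hN1 ⊢
    rw [hN, degree_mul, degree_X_one, show ((ρ + 1 + (σ + 1) + 2 : ℕ) : WithBot ℕ) = (1 : ℕ) + (ρ + σ + 3 : ℕ) by
      push_cast; ring] at hN1
    exact lt_of_add_lt_add_left hN1
  obtain ⟨bk, hbk⟩ : ∃ bk, bk = c + d' - f' := ⟨_, rfl⟩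
  have hN0 : N.eval 0 = c * bk * l.eval 0 := by
    have e1 := congrArg (eval 0) hN
    rw [eval_sub, eval_mul, eval_C, eval_comp, eval_add, eval_X, eval_one, zero_add, eval_mul, eval_add, eval_X, eval_one,
      zero_add, one_mul, ← h1, hψ] at e1
    simp only [eval_add, eval_sub, eval_mul, eval_C, eval_X, eval_one, eval_pow, zero_mul, add_zero, zero_add, one_mul,
      sub_zero, zero_pow (Nat.succ_ne_zero _), mul_zero, one_pow] at e1
    rw [← e1, hbk]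
    ring
  have hQ1 : (N - C (c * bk) * l).IsRoot 0 := by
    rw [IsRoot.def, eval_sub, eval_mul, eval_C, hN0, sub_self]
  obtain ⟨Q, hQ⟩ := dvd_iff_isRoot.2 hQ1
  rw [C_0, sub_zero] at hQ
  have hQd : Q ∈ degreeLT F (ρ + σ + 2) := by
    have e1 : N - C (c * bk) * l ∈ degreeLT F (ρ + σ + 3) := by
      refine sub_mem hNd ?_
      rw [← smul_eq_C_mul]
      exact Submodule.smul_mem _ _ (hsub (by omega) hld)
    rw [mem_degreeLT] at e1 ⊢
    rw [hQ, degree_mul, degree_X, show ((ρ + σ + 3 : ℕ) : WithBot ℕ) = 1 + (ρ + σ + 2 : ℕ) by push_cast; ring] at e1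
    exact lt_of_add_lt_add_left e1
  obtain ⟨H1, H2, hH, hH1, hH2⟩ := exists_parts hld hQd hl0 hl1
  obtain ⟨η, hη⟩ : ∃ η, η * (1 + c - l.eval 0) = H1.coeff 0 :=
    ⟨H1.coeff 0 / (1 + c - l.eval 0), div_mul_cancel₀ _ (sub_ne_zero.2 hcl)⟩
  obtain ⟨β1, hβ1⟩ : ∃ β : F[X], β = C c⁻¹ * (H1 + C η * l - C η) := ⟨_, rfl⟩
  obtain ⟨β2, hβ2⟩ : ∃ β : F[X], β = C c⁻¹ * (H2 - C η * X ^ σ) := ⟨_, rfl⟩
  have hcβ1 : C c * β1 = H1 + C η * l - C η := by
    rw [hβ1, ← mul_assoc, ← C_mul, mul_inv_cancel₀ hc, C_1, one_mul]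
  have hcβ2 : C c * β2 = H2 - C η * X ^ σ := by
    rw [hβ2, ← mul_assoc, ← C_mul, mul_inv_cancel₀ hc, C_1, one_mul]
  have hβ1d : β1 ∈ degreeLT F (ρ + 1) := by
    rw [hβ1, ← smul_eq_C_mul, ← smul_eq_C_mul]
    exact Submodule.smul_mem _ _ (sub_mem (add_mem hH1 (Submodule.smul_mem _ _ hld)) (C_mem_degreeLT _ (by omega)))
  have hβ2d : β2 ∈ degreeLT F (σ + 1) := by
    rw [hβ2, ← smul_eq_C_mul, ← smul_eq_C_mul]
    refine Submodule.smul_mem _ _ (sub_mem hH2 (Submodule.smul_mem _ _ ?_))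
    exact mem_degreeLT.2 ((degree_X_pow_le σ).trans_lt (by exact_mod_cast Nat.lt_succ_self σ))
  have hβ1v : β1.coeff 0 = η := by
    have e1 := congrArg (fun q : F[X] => q.coeff 0) hcβ1
    simp only [coeff_C_mul, coeff_add, coeff_sub, coeff_C_zero] at e1
    rw [← hη, coeff_zero_eq_eval_zero l] at e1
    refine mul_left_cancel₀ hc (e1.trans ?_)
    ring
  obtain ⟨γ, hγ⟩ : ∃ γ : F[X], γ = β2 * X + C bk := ⟨_, rfl⟩
  have hγd : γ ∈ degreeLT F (σ + 2) := by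
    rw [hγ, mul_comm]
    exact add_mem (mul_mem_degreeLT (by rw [degree_X]; rfl) hβ2d (by ring)) (C_mem_degreeLT _ (by omega))
  have hγx : divX γ = β2 := by
    ext n
    rw [coeff_divX, hγ, coeff_add, coeff_mul_X, coeff_C_succ, add_zero]
  have hγ0 : γ.coeff 0 = bk := by
    rw [hγ, coeff_add, mul_coeff_zero, coeff_X_zero, mul_zero, zero_add, coeff_C_zero]
  obtain ⟨k, hk⟩ : ∃ k, k = ρ + 1 + (σ + 1) := ⟨_, rfl⟩
  obtain ⟨w, hw⟩ : ∃ w, w = (S ^ (σ + 2)) v2 := ⟨_, rfl⟩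
  obtain ⟨ε, hε1, hε2, hε3⟩ : ∃ ε : ℕ → V, (∀ i ≤ ρ, ε i = (S ^ i) v1) ∧ (∀ j ≤ σ + 1, ε (ρ + 1 + j) = (S ^ j) v2) ∧
      ε (k + 1) = w + (∑ i ∈ Finset.range (ρ + 1), β1.coeff (ρ - i) • (S ^ i) v1 +
        ∑ j ∈ Finset.range (σ + 2), γ.coeff (σ + 1 - j) • (S ^ j) v2) := by
    refine ⟨fun i => if i ≤ ρ then (S ^ i) v1 else if i ≤ k then (S ^ (i - (ρ + 1))) v2 else
      w + (∑ i ∈ Finset.range (ρ + 1), β1.coeff (ρ - i) • (S ^ i) v1 +
        ∑ j ∈ Finset.range (σ + 2), γ.coeff (σ + 1 - j) • (S ^ j) v2), fun i hi => if_pos hi, fun j hj => ?_, ?_⟩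
    · simp only []
      rw [if_neg (by omega), if_pos (by omega), Nat.add_sub_cancel_left]
    · simp only []
      rw [if_neg (by omega), if_neg (by omega)]
  have hs' : ⊤ ≤ Submodule.span F (Set.range fun i : Fin (k + 2) => ε i) := by
    have g1 : ∀ i ≤ ρ, (S ^ i) v1 ∈ Submodule.span F (Set.range fun i : Fin (k + 2) => ε i) := fun i hi =>
      Submodule.subset_span ⟨⟨i, by omega⟩, hε1 i hi⟩
    have g2 : ∀ i ≤ σ + 1, (S ^ i) v2 ∈ Submodule.span F (Set.range fun i : Fin (k + 2) => ε i) := fun i hi =>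
      Submodule.subset_span ⟨⟨ρ + 1 + i, by omega⟩, hε2 i hi⟩
    refine hs.trans (Submodule.span_le.2 (Set.union_subset ?_ ?_))
    · rintro _ ⟨i, rfl⟩
      exact g1 i (by omega)
    · rintro _ ⟨i, rfl⟩
      by_cases hi : (i : ℕ) ≤ σ + 1
      · exact g2 _ hi
      · have h3 : (i : ℕ) = σ + 2 := by omega
        change (S ^ (i : ℕ)) v2 ∈ _
        rw [h3, ← hw, show w = ε (k + 1) - (∑ i ∈ Finset.range (ρ + 1), β1.coeff (ρ - i) • (S ^ i) v1 +
          ∑ j ∈ Finset.range (σ + 2), γ.coeff (σ + 1 - j) • (S ^ j) v2) by rw [hε3, add_sub_cancel_right]]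
        refine sub_mem (Submodule.subset_span ⟨⟨k + 1, by omega⟩, rfl⟩) (add_mem ?_ ?_)
        · exact Submodule.sum_mem _ fun i hi => Submodule.smul_mem _ _ (g1 i (by have := Finset.mem_range.1 hi; omega))
        · exact Submodule.sum_mem _ fun i hi => Submodule.smul_mem _ _ (g2 i (by have := Finset.mem_range.1 hi; omega))
  obtain ⟨XX, Y, hYX, hXc, hY1, hY2, hne⟩ := frame (k := k) (by rw [hV, hk]) ε hs' hf hfi (by rw [hfd, hk]) A
  refine ⟨XX, Y, hYX, hXc, ?_⟩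
  let _ : Module F[X] V := Module.compHom V (aeval (Y - 1) : F[X] →ₐ[F] Module.End F V).toRingHom
  have hsm : ∀ (p : F[X]) (v : V), p • v = aeval (Y - 1) p v := fun _ _ => rfl
  have hXs : ∀ v : V, (X : F[X]) • v = Y v - v := fun v => by rw [hsm, aeval_X]; rfl
  have hX1s : ∀ v : V, (X + 1 : F[X]) • v = Y v := fun v => by rw [add_smul, one_smul, hXs, sub_add_cancel]
  have hCs : ∀ (a : F) (v : V), (C a : F[X]) • v = a • v := fun a v => by rw [hsm, aeval_C]; rfl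
  obtain ⟨u, hu⟩ : ∃ u, u = ε k := ⟨_, rfl⟩
  obtain ⟨x, hx⟩ : ∃ x, x = ε ρ := ⟨_, rfl⟩
  obtain ⟨y, hy⟩ : ∃ y, y = ε (k + 1) := ⟨_, rfl⟩
  have hSε1 : ∀ i < ρ, S (ε i) = ε (i + 1) := fun i hi => by
    rw [hε1 i hi.le, hε1 (i + 1) hi, pow_succ', Module.End.mul_apply]
  have hSε2 : ∀ j < σ + 1, S (ε (ρ + 1 + j)) = ε (ρ + 1 + (j + 1)) := fun j hj => by
    rw [hε2 j hj.le, hε2 (j + 1) hj, pow_succ', Module.End.mul_apply]
  have hM1 : ∀ i < ρ, (X : F[X]) • ε (i + 1) = ε i := fun i hi => by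
    rw [hXs, hY1 i (by omega), hA, hSε1 i hi, add_sub_cancel_right]
  have hM2 : ∀ j < σ + 1, (X : F[X]) • ε (ρ + 1 + (j + 1)) = ε (ρ + 1 + j) := fun j hj => by
    rw [hXs, show ρ + 1 + (j + 1) = ρ + 1 + j + 1 by ring, hY1 (ρ + 1 + j) (by omega), hA, hSε2 j hj,
      show ρ + 1 + (j + 1) = ρ + 1 + j + 1 by ring, add_sub_cancel_right]
  have hxr : ∀ j ≤ ρ, ε (ρ - j) = (X ^ j : F[X]) • x := by
    intro j
    induction j with
    | zero => intro _; rw [pow_zero, one_smul, Nat.sub_zero, hx]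
    | succ j ih =>
      intro hj
      rw [pow_succ', mul_smul, ← ih (by omega), ← hM1 (ρ - (j + 1)) (by omega), show ρ - (j + 1) + 1 = ρ - j by omega]
  have hur : ∀ j ≤ σ + 1, (fun i => ε (ρ + 1 + i)) (σ + 1 - j) = (X ^ j : F[X]) • u := by
    intro j
    simp only []
    induction j with
    | zero => intro _; rw [pow_zero, one_smul, Nat.sub_zero, hu, hk]
    | succ j ih =>
      intro hj
      rw [pow_succ', mul_smul, ← ih (by omega), ← hM2 (σ + 1 - (j + 1)) (by omega),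
        show σ + 1 - (j + 1) + 1 = σ + 1 - j by omega]
  have hxρ : ε (ρ + 1) = (X ^ (σ + 1) : F[X]) • u := by
    have := hur (σ + 1) le_rfl
    simpa using this
  have hβs : ∑ i ∈ Finset.range (ρ + 1), β1.coeff (ρ - i) • ε i = β1 • x := by
    rw [← rev_sum (mem_degreeLT.1 hβ1d) hxr]
    exact Finset.sum_congr rfl fun i _ => (hCs _ _).symm
  have hβs' : ∑ i ∈ Finset.range (ρ + 1), β1.coeff (ρ - i) • ε (i + 1) =
      divX β1 • x + (C η * X ^ (σ + 1) : F[X]) • u := by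
    rw [Finset.sum_range_succ, ← rev_sum' (mem_degreeLT.1 hβ1d) hxr, mul_smul, ← hxρ, hCs, Nat.sub_self, hβ1v]
    congr 1
    exact Finset.sum_congr rfl fun i _ => (hCs _ _).symm
  have hγs : ∑ j ∈ Finset.range (σ + 2), γ.coeff (σ + 1 - j) • ε (ρ + 1 + j) = γ • u := by
    rw [← rev_sum (k := σ + 1) (ε := fun i => ε (ρ + 1 + i)) (mem_degreeLT.1 hγd) hur]
    exact Finset.sum_congr rfl fun i _ => (hCs _ _).symm
  have hγs' : ∑ j ∈ Finset.range (σ + 2), γ.coeff (σ + 1 - j) • ε (ρ + 1 + j + 1) = β2 • u + (C bk : F[X]) • y := by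
    rw [Finset.sum_range_succ, ← hγx, ← rev_sum' (k := σ + 1) (ε := fun i => ε (ρ + 1 + i)) (mem_degreeLT.1 hγd) hur, hCs, Nat.sub_self, hγ0, hy, hk]
    congr 1
    exact Finset.sum_congr rfl fun i _ => (hCs _ _).symm
  have hφs1 : ∑ i ∈ Finset.range (ρ + 1), f.coeff i • ε i = φ1 • x := by
    rw [hφ1, ← rev_sum_const hxr]
    exact Finset.sum_congr rfl fun i _ => (hCs _ _).symm
  have hφs2 : ∑ j ∈ Finset.range (σ + 2), f.coeff (ρ + 1 + j) • ε (ρ + 1 + j) = φ2 • u := by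
    rw [hφ2, ← rev_sum_const (k := σ + 1) (ε := fun i => ε (ρ + 1 + i)) (a := fun j => f.coeff (ρ + 1 + j)) hur]
    exact Finset.sum_congr rfl fun i _ => (hCs _ _).symm
  have hδs : ∑ j ∈ Finset.range (σ + 2), d.coeff j • ε (ρ + 1 + j) = δ • u := by
    rw [hδ, ← rev_sum_const (k := σ + 1) (ε := fun i => ε (ρ + 1 + i)) (a := fun j => d.coeff j) hur]
    exact Finset.sum_congr rfl fun i _ => (hCs _ _).symm
  have hπs : ∑ i ∈ Finset.range (ρ + 1), p.coeff i • ε i = π • x := by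
    rw [hπ, ← rev_sum_const hxr]
    exact Finset.sum_congr rfl fun i _ => (hCs _ _).symm
  have hyw : y = w + (β1 • x + γ • u) := by
    rw [hy, hε3, ← hβs, ← hγs]
    congr 2
    · exact Finset.sum_congr rfl fun i hi => by rw [hε1 i (by have := Finset.mem_range.1 hi; omega)]
    · exact Finset.sum_congr rfl fun i hi => by rw [hε2 i (by have := Finset.mem_range.1 hi; omega)]
  have hSu : S u = w := by
    rw [hw, hu, hk, hε2 (σ + 1) le_rfl, ← Module.End.mul_apply, ← pow_succ']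
  have hSx : S x = -(π • x) := by
    have e1 := hp0
    rw [aeval_eq_sum_range, LinearMap.sum_apply, hpd, Finset.sum_range_succ] at e1
    have e2 : p.coeff (ρ + 1) = 1 := by rw [← hpd]; exact hp.coeff_natDegree
    rw [e2, one_smul, pow_succ', Module.End.mul_apply] at e1
    rw [show ∑ i ∈ Finset.range (ρ + 1), (p.coeff i • S ^ i) v1 = π • x by
      rw [← hπs]
      exact Finset.sum_congr rfl fun i hi => by
        rw [LinearMap.smul_apply, hε1 i (by have := Finset.mem_range.1 hi; omega)]] at e1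
    have e3 : S x = S ((S ^ ρ) v1) := by rw [hx, hε1 ρ le_rfl]
    rw [e3]
    exact (neg_eq_of_add_eq_zero_right e1).symm
  have E1 : l • x = ((X + 1) * X ^ (σ + 1) : F[X]) • u := by
    rw [mul_smul, ← hxρ, hX1s, hY1 ρ (by omega), hA, ← hx, hSx, hl, sub_smul, one_smul, sub_eq_add_neg]
  have hdx : (divX β1 * X + C η : F[X]) = β1 := by
    rw [← hβ1v]; exact divX_mul_X_add β1
  have E2 : (X : F[X]) • y = u - (divX β1 * X + C η : F[X]) • x - (β2 * X + C bk : F[X]) • u := by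
    rw [hdx, ← hγ, hXs]
    conv_lhs => rw [hyw, ← hyw, hy, hY1 k le_rfl, hA, ← hu, hSu, ← hy, hyw]
    abel
  have hSw : S w = -(δ • u) - (C d' : F[X]) • w := by
    have e1 := hd0
    rw [aeval_eq_sum_range, LinearMap.sum_apply, hdd, Finset.sum_range_succ, Finset.sum_range_succ] at e1
    have e2 : d.coeff (σ + 3) = 1 := by rw [← hdd]; exact hd.coeff_natDegree
    rw [e2, one_smul, show S ^ (σ + 3) = S * S ^ (σ + 2) from pow_succ' _ _, Module.End.mul_apply] at e1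
    rw [show ∑ i ∈ Finset.range (σ + 2), (d.coeff i • S ^ i) v2 = δ • u by
      rw [← hδs]
      exact Finset.sum_congr rfl fun i hi => by
        rw [LinearMap.smul_apply, hε2 i (by have := Finset.mem_range.1 hi; omega)]] at e1
    rw [LinearMap.smul_apply, ← hCs, ← hd', ← hw] at e1
    rw [eq_neg_of_add_eq_zero_right e1]
    abel
  have hAy : A y = (1 - C d' : F[X]) • w - δ • u + (X + 1 : F[X]) • (divX β1 • x + (C η * X ^ (σ + 1) : F[X]) • u +
      (β2 • u + (C bk : F[X]) • y)) := by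
    have e2 : A (β1 • x) = (X + 1 : F[X]) • (divX β1 • x + (C η * X ^ (σ + 1) : F[X]) • u) := by
      rw [← hβs', ← hβs, hX1s, map_sum, map_sum]
      exact Finset.sum_congr rfl fun i hi => by
        rw [map_smul, map_smul, hY1 i (by have := Finset.mem_range.1 hi; omega)]
    have e3 : A (γ • u) = (X + 1 : F[X]) • (β2 • u + (C bk : F[X]) • y) := by
      rw [← hγs', ← hγs, hX1s, map_sum, map_sum]
      exact Finset.sum_congr rfl fun i hi => by
        rw [map_smul, map_smul, hY1 (ρ + 1 + i) (by have := Finset.mem_range.1 hi; omega)]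
    conv_lhs => rw [hyw]
    rw [map_add, map_add, e2, e3, hA, hSw, sub_smul, one_smul, smul_add (X + 1 : F[X]) (divX β1 • x + _)]
    abel
  have hwy : w = y - (divX β1 * X + C η : F[X]) • x - (β2 * X + C bk : F[X]) • u := by
    rw [hdx, ← hγ, hyw]; abel
  have E3 : (X + 1 : F[X]) • (φ1 • x + φ2 • u + (C f' : F[X]) • y) +
      ((1 - C d' : F[X]) • (y - (divX β1 * X + C η : F[X]) • x - (β2 * X + C bk : F[X]) • u) - δ • u +
        (X + 1 : F[X]) • (divX β1 • x + (C η * X ^ (σ + 1) : F[X]) • u + (β2 • u + (C bk : F[X]) • y))) = 0 := by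
    rw [← hwy, ← hAy]
    have e1 : φ1 • x + φ2 • u + (C f' : F[X]) • y = ∑ i ∈ Finset.range (k + 2), f.coeff i • ε i := by
      rw [Finset.sum_range_succ, ← hφs1, ← hφs2, hCs, hf', hy, ← hk, show k + 1 = (ρ + 1) + (σ + 2) by omega,
        Finset.sum_range_add (fun i => f.coeff i • ε i) (ρ + 1) (σ + 2)]
    rw [e1, hX1s, hY2, ← hy, neg_add_cancel]
  have hP := comb_two E1 E2 E3
  have hcC : (C bk + C f' - C d' : F[X]) = C c := by
    rw [hbk, ← C_add, ← C_sub]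
    congr 1
    ring
  rw [hcC, hdx, ← hγ] at hP
  have hcγ : C c * γ = C (c * bk) + X * (H2 - C η * X ^ σ) := by
    rw [hγ, mul_add, ← C_mul, ← mul_assoc, hcβ2]; ring
  have hPe : (X + 1) ^ 2 * X ^ (σ + 1) * (X * φ1 - C η - C c * β1) +
      l * ((X + 1) * (X * φ2 + C f' + C η * X * X ^ (σ + 1) - C c * γ) + (1 - C d') - X * δ) =
        C (f.coeff 0) * g.comp (X + 1) := by
    rw [hcγ, hcβ1]
    have e1 : C (f.coeff 0) * g.comp (X + 1) = ψ - (X + 1) * (X * (l * H2 + (X + 1) * X ^ σ * H1) + C (c * bk) * l) := by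
      rw [hH, ← hQ, sub_add_cancel, ← hN]
      ring
    rw [e1, hψ]
    ring
  rw [hPe, mul_smul, hCs, hsm] at hP
  have hf0 : f.coeff 0 ≠ 0 := by
    intro h0
    have h2 : (Polynomial.X : F[X]) ∣ f := X_dvd_iff.2 h0
    have h3 := (hfi.dvd_iff.1 h2).resolve_left not_isUnit_X
    have h4 := natDegree_eq_of_degree_eq (degree_eq_degree_of_associated h3)
    rw [natDegree_X] at h4
    omega
  have hg1 := (smul_eq_zero.1 hP).resolve_left hf0
  rw [aeval_comp, map_add, aeval_X, map_one, sub_add_cancel] at hg1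
  refine charpoly_of_kill Y hg hgi (by rw [hgd, hV]) ?_ hg1
  rw [hu]
  exact hne k (by omega)

end Cfsg.Agent.H962.PP
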