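import Cfsg.Agent.H962.PP.Conj
import Mathlib.FieldTheory.Finite.Extension
import Mathlib.RingTheory.Norm.Basic

/-!
# Cyclic matrices of determinant one which are `e`-th powers

`exists_tor` : `F` finite with `q` elements, `2 e ≤ q`, `d ≥ 2`: there is `M` in `SL_d(F)`,
`M ^ (q ^ d - 1) = 1`, with `M ^ e` cyclic and `1` not an eigenvalue of `M ^ e`.
-/

set_option autoImplicit false

namespace Cfsg.Agent.H962.PP

open Module Matrix Polynomial

theorem num_aux {q e d d' : ℕ} (hq : 2 ≤ q) (he : e + 1 ≤ q) (hd : d' + 2 ≤ d) :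
    (q - 1) * e * (q ^ d' - 1) < q ^ d - 1 := by
  obtain ⟨a, rfl⟩ : ∃ a, q = a + 1 := ⟨q - 1, by omega⟩
  obtain ⟨b, hb⟩ : ∃ b, (a + 1) ^ d' = b + 1 := ⟨(a + 1) ^ d' - 1, by
    have : 0 < (a + 1) ^ d' := by positivity
    omega⟩
  have h1 : (a + 1) ^ (d' + 2) ≤ (a + 1) ^ d := Nat.pow_le_pow_right (by omega) hd
  have h2 : (a + 1) ^ (d' + 2) = (b + 1) * (a + 1) ^ 2 := by rw [pow_add, hb]
  rw [hb]
  have h3 : (a + 1 - 1) * e * (b + 1 - 1) ≤ a * a * b := by
    have : a + 1 - 1 = a := rfl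
    rw [this, Nat.add_sub_cancel]
    exact Nat.mul_le_mul_right _ (Nat.mul_le_mul_left _ (by omega))
  have h4 : (b + 1) * (a + 1) ^ 2 = a * a * b + (2 * a * b + b + a * a + 2 * a + 1) := by ring
  omega

variable {F : Type*} [Field F] [Finite F]

theorem exists_tor {d e : ℕ} (hd : 2 ≤ d) (he0 : 0 < e) (he : 2 * e ≤ Nat.card F) :
    ∃ M : Matrix (Fin d) (Fin d) F, M.det = 1 ∧ M ^ (Nat.card F ^ d - 1) = 1 ∧ Cyc (M ^ e) ∧
      (M ^ e).charpoly.eval 1 ≠ 0 := by
  have : Fintype F := Fintype.ofFinite F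
  have := NeZero.mk (show d ≠ 0 by omega)
  obtain ⟨p, hpc⟩ := CharP.exists F
  have hp : Fact p.Prime := ⟨CharP.char_is_prime F p⟩
  obtain ⟨q, hq⟩ : ∃ q, q = Nat.card F := ⟨_, rfl⟩
  have hq2 : 2 ≤ q := by rw [hq]; exact Finite.one_lt_card
  rw [← hq] at he ⊢
  obtain ⟨L, _, _, _, hcard, hfin⟩ : ∃ (L : Type) (_ : Field L) (_ : Finite L) (_ : Algebra F L),
      Nat.card L = q ^ d ∧ finrank F L = d :=
    ⟨FiniteField.Extension F p d, inferInstance, inferInstance, inferInstance,
      by rw [hq]; exact FiniteField.natCard_extension F p d, FiniteField.finrank_extension F p d⟩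
  have hmod : Module.Finite F L := Module.finite_of_finrank_pos (by omega)
  obtain ⟨ω, hω⟩ := IsCyclic.exists_generator (α := Lˣ)
  have hωo : orderOf ω = q ^ d - 1 := by
    rw [orderOf_eq_card_of_forall_mem_zpowers hω, Nat.card_units, hcard]
  obtain ⟨θ, hθ⟩ : ∃ θ : Lˣ, θ = (ω ^ (q - 1)) ^ e := ⟨_, rfl⟩
  have hqd : q ^ 2 ≤ q ^ d := Nat.pow_le_pow_right (by omega) hd
  have hq4 : 4 ≤ q ^ 2 := by nlinarith
  -- the degree of `θ`
  have hint : IsIntegral F (θ : L) := Algebra.IsIntegral.isIntegral _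
  have hdeg : (minpoly F (θ : L)).natDegree = d := by
    obtain ⟨d', hd'⟩ : ∃ d', d' = (minpoly F (θ : L)).natDegree := ⟨_, rfl⟩
    rw [← hd']
    have hpos : 0 < d' := by rw [hd']; exact minpoly.natDegree_pos hint
    have hfr : finrank F (IntermediateField.adjoin F {(θ : L)}) = d' := by
      rw [hd']; exact IntermediateField.adjoin.finrank hint
    have hdvd : d' ∣ d := by
      rw [← hfr, ← hfin]
      exact Dvd.intro _ (Module.finrank_mul_finrank F (IntermediateField.adjoin F {(θ : L)}) L)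
    by_contra hne
    have hlt : 2 * d' ≤ d := by
      obtain ⟨c, hc⟩ := hdvd
      have hc0 : c ≠ 0 := by rintro rfl; omega
      have hc1 : c ≠ 1 := by rintro rfl; omega
      have hc2 : 2 ≤ c := by omega
      calc 2 * d' = d' * 2 := by ring
        _ ≤ d' * c := Nat.mul_le_mul_left _ hc2
        _ = d := hc.symm
    have hcd : Nat.card (IntermediateField.adjoin F {(θ : L)}) = q ^ d' := by
      rw [← hfr, hq]; exact Module.natCard_eq_pow_finrank
    have hpow : θ ^ (q ^ d' - 1) = 1 := by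
      let t : IntermediateField.adjoin F {(θ : L)} :=
        ⟨θ, IntermediateField.mem_adjoin_simple_self F _⟩
      have ht0 : t ≠ 0 := fun h => θ.ne_zero (congrArg Subtype.val h)
      have h1 : (Units.mk0 t ht0) ^ (q ^ d' - 1) = 1 := by
        rw [← hcd, ← Nat.card_units]; exact pow_card_eq_one'
      have h2 : (t : L) ^ (q ^ d' - 1) = 1 := by
        have h3 := congrArg
          (fun u : (IntermediateField.adjoin F {(θ : L)})ˣ =>
            ((u : IntermediateField.adjoin F {(θ : L)}) : L)) h1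
        simpa using h3
      exact Units.ext (by rw [Units.val_pow_eq_pow_val]; exact h2)
    rcases Nat.lt_or_ge d 3 with h3 | h3
    · -- `d = 2`
      have hd2 : d = 2 := by omega
      have hd1 : d' = 1 := by omega
      rw [hd1, pow_one] at hpow
      have h4 : θ ^ (q + 1) = 1 := by
        rw [hθ, ← pow_mul, ← pow_mul, ← mul_assoc]
        have h5 : (q - 1) * e * (q + 1) = (q ^ d - 1) * e := by
          rw [hd2]
          obtain ⟨a, rfl⟩ : ∃ a, q = a + 1 := ⟨q - 1, by omega⟩
          have : (a + 1) ^ 2 - 1 = a * (a + 2) := by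
            have : (a + 1) ^ 2 = a * (a + 2) + 1 := by ring
            omega
          rw [this, Nat.add_sub_cancel]; ring
        rw [h5, pow_mul, ← hωo, pow_orderOf_eq_one, one_pow]
      have h5 : θ ^ 2 = 1 := by
        have h6 : q + 1 = (q - 1) + 2 := by omega
        rw [h6, pow_add, hpow, one_mul] at h4
        exact h4
      rw [hθ, ← pow_mul, ← pow_mul, ← mul_assoc] at h5
      have h6 := orderOf_dvd_of_pow_eq_one h5
      have h7 : 0 < (q - 1) * e * 2 := by
        have : 0 < q - 1 := by omega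
        positivity
      have h8 := Nat.le_of_dvd h7 h6
      rw [hωo, hd2] at h8
      obtain ⟨a, rfl⟩ : ∃ a, q = a + 1 := ⟨q - 1, by omega⟩
      have h9 : (a + 1) ^ 2 - 1 = a * (a + 2) := by
        have : (a + 1) ^ 2 = a * (a + 2) + 1 := by ring
        omega
      rw [h9, Nat.add_sub_cancel] at h8
      have h10 : a * e * 2 = a * (2 * e) := by ring
      rw [h10] at h8
      have h11 := Nat.le_of_mul_le_mul_left h8 (by omega)
      omega
    · rw [hθ, ← pow_mul, ← pow_mul, ← mul_assoc] at hpow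
      have h6 := orderOf_dvd_of_pow_eq_one hpow
      have hqd' : 2 ≤ q ^ d' := by
        calc 2 ≤ q := hq2
          _ = q ^ 1 := (pow_one q).symm
          _ ≤ q ^ d' := Nat.pow_le_pow_right (by omega) hpos
      have h7 : 0 < (q - 1) * e * (q ^ d' - 1) := by
        have : 0 < q - 1 := by omega
        have : 0 < q ^ d' - 1 := by omega
        positivity
      have h8 := Nat.le_of_dvd h7 h6
      rw [hωo] at h8
      have h9 := num_aux (q := q) (e := e) (d := d) (d' := d') hq2 (by omega) (by omega)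
      omega
  -- the matrix
  let b : Basis (Fin d) F L := Module.finBasisOfFinrankEq F L hfin
  obtain ⟨M, hM⟩ : ∃ M, M = Algebra.leftMulMatrix b ((ω ^ (q - 1) : Lˣ) : L) := ⟨_, rfl⟩
  have hMe : M ^ e = Algebra.leftMulMatrix b (θ : L) := by
    rw [hM, ← map_pow, ← Units.val_pow_eq_pow_val, ← hθ]
  have hθ1 : (θ : L) ≠ 1 := by
    intro h
    rw [h, minpoly.one, ← C_1, natDegree_X_sub_C] at hdeg
    omega
  refine ⟨M, ?_, ?_, ?_, ?_⟩
  · rw [hM, ← Algebra.norm_eq_matrix_det, Units.val_pow_eq_pow_val, map_pow]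
    have h1 : Algebra.norm F (ω : L) ≠ 0 := by
      rw [Algebra.norm_ne_zero_iff]; exact ω.ne_zero
    have h2 := FiniteField.pow_card_sub_one_eq_one _ h1
    rwa [← Nat.card_eq_fintype_card, ← hq] at h2
  · rw [hM, ← map_pow, ← Units.val_pow_eq_pow_val, ← pow_mul, mul_comm, pow_mul, ← hωo,
      pow_orderOf_eq_one, one_pow, Units.val_one, map_one]
  · refine ⟨b.repr 1, ?_⟩
    have h1 : (fun i : Fin d => ((M ^ e) ^ (i : ℕ)) *ᵥ (b.repr 1))
        = fun i : Fin d => (b.equivFun : L →ₗ[F] (Fin d → F)) ((θ : L) ^ (i : ℕ)) := by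
      funext i
      rw [hMe, ← map_pow, Algebra.leftMulMatrix_mulVec_repr, mul_one]
      rfl
    rw [h1]
    refine LinearIndependent.map' ?_ _ (LinearMap.ker_eq_bot.mpr b.equivFun.injective)
    have h2 := linearIndependent_pow (K := F) (θ : L)
    rw [hdeg] at h2
    exact h2
  · rw [Matrix.eval_charpoly, map_one, hMe, ← map_one (Algebra.leftMulMatrix b), ← map_sub,
      ← Algebra.norm_eq_matrix_det, Algebra.norm_ne_zero_iff]
    exact sub_ne_zero.mpr (Ne.symm hθ1)

end Cfsg.Agent.H962.PP
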