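import Cfsg.Agent.H962.PP.Pole
import Mathlib.LinearAlgebra.Matrix.ToLin

/-!
# The map `T` attached to a lower Hessenberg matrix `P`

`P` is a square matrix with `P i j = 0` for `j > i + 1`, injective on `K = {v | v 0 = 0}`.
We construct an invertible `T` such that neither `T` leaves a nonzero subspace of `K` invariant,
nor `P` maps a nonzero subspace `U` of `K` into `T U`.
-/

set_option autoImplicit false

namespace Cfsg.Agent.H962.PP

open Module Matrix

variable {F : Type*} [Field F]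

section aux
variable {M : Type*} [AddCommGroup M] [Module F M] [FiniteDimensional F M]

omit [FiniteDimensional F M] in
theorem finrank_map_of_inj (g : M →ₗ[F] M) (U : Submodule F M) (h : ∀ u ∈ U, g u = 0 → u = 0) :
    finrank F (U.map g) = finrank F U := by
  rw [← LinearMap.range_domRestrict]
  apply LinearMap.finrank_range_of_inj
  rw [← LinearMap.ker_eq_bot, LinearMap.ker_eq_bot']
  intro u hu
  exact Subtype.ext (h u.1 u.2 hu)

theorem map_eq_of_le (g h : M →ₗ[F] M) (U : Submodule F M) (hg : ∀ u ∈ U, g u = 0 → u = 0)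
    (hle : U.map g ≤ U.map h) : U.map g = U.map h := by
  apply Submodule.eq_of_le_of_finrank_le hle
  rw [finrank_map_of_inj g U hg]
  exact Submodule.finrank_map_le h U

end aux

variable {k : ℕ}

/-- lower Hessenberg -/
def LH {N : ℕ} (P : Matrix (Fin N) (Fin N) F) : Prop := ∀ i j : Fin N, (i : ℕ) + 1 < j → P i j = 0

/-- If `v` vanishes below `j`, the coordinate `i` of `P v`, `i + 1 = j`, is `P i j * v j`. -/
theorem LH.apply {N : ℕ} {P : Matrix (Fin N) (Fin N) F} (hP : LH P) {i j : Fin N} (hij : (i : ℕ) + 1 = j)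
    {v : Fin N → F} (hv : ∀ l : Fin N, l < j → v l = 0) : (P *ᵥ v) i = P i j * v j := by
  rw [Matrix.mulVec, dotProduct, Finset.sum_eq_single j]
  · intro l _ hl
    rcases lt_or_gt_of_ne hl with h | h
    · rw [hv l h, mul_zero]
    · rw [hP i l (by have : (j : ℕ) < l := h; omega), zero_mul]
  · intro h; exact absurd (Finset.mem_univ _) h

open scoped Classical in
/-- the shift-like map `E` -/
noncomputable def shE (P : Matrix (Fin (k + 1)) (Fin (k + 1)) F) : (Fin (k + 1) → F) →ₗ[F] (Fin (k + 1) → F) where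
  toFun v i := if h : (i : ℕ) + 1 < k + 1 then
    (if P i ⟨(i : ℕ) + 1, h⟩ = 0 then v ⟨(i : ℕ) + 1, h⟩ else 0) else 0
  map_add' v w := by
    ext i; simp only [Pi.add_apply]; split_ifs <;> simp
  map_smul' c v := by
    ext i; simp only [Pi.smul_apply, RingHom.id_apply]; split_ifs <;> simp

open scoped Classical in
theorem shE_apply (P : Matrix (Fin (k + 1)) (Fin (k + 1)) F) {i j : Fin (k + 1)}
    (hij : (i : ℕ) + 1 = j) (v : Fin (k + 1) → F) :
    shE P v i = if P i j = 0 then v j else 0 := by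
  have hlt : (i : ℕ) + 1 < k + 1 := by have := j.2; omega
  have hj : (⟨(i : ℕ) + 1, hlt⟩ : Fin (k + 1)) = j := Fin.ext hij
  change (if h : (i : ℕ) + 1 < k + 1 then _ else _) = _
  rw [dif_pos hlt, hj]

theorem shE_last (P : Matrix (Fin (k + 1)) (Fin (k + 1)) F) {i : Fin (k + 1)}
    (hi : (i : ℕ) = k) (v : Fin (k + 1) → F) : shE P v i = 0 := by
  change (if h : (i : ℕ) + 1 < k + 1 then _ else _) = _
  rw [dif_neg (by omega)]

/-- kill the zeroth coordinate -/
def kap : (Fin (k + 1) → F) →ₗ[F] (Fin (k + 1) → F) where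
  toFun v := Function.update v 0 0
  map_add' v w := by
    ext i; by_cases h : i = 0 <;> simp [h]
  map_smul' c v := by
    ext i; by_cases h : i = 0 <;> simp [h]

theorem kap_zero (v : Fin (k + 1) → F) : kap v 0 = 0 := by simp [kap]

theorem kap_ne (v : Fin (k + 1) → F) {i : Fin (k + 1)} (hi : i ≠ 0) : kap v i = v i := by
  simp [kap, hi]

theorem kap_eq {v : Fin (k + 1) → F} (hv : v 0 = 0) : kap v = v := by
  ext i
  by_cases h : i = 0
  · rw [h, kap_zero, hv]
  · exact kap_ne v h

/-- `N = T - P` on `K` -/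
noncomputable def nN (P : Matrix (Fin (k + 1)) (Fin (k + 1)) F) : (Fin (k + 1) → F) →ₗ[F] (Fin (k + 1) → F) :=
  shE P - LinearMap.id

theorem nN_apply (P : Matrix (Fin (k + 1)) (Fin (k + 1)) F) (v : Fin (k + 1) → F)
    (i : Fin (k + 1)) : nN P v i = shE P v i - v i := rfl

/-- the map `T` -/
noncomputable def tT (P : Matrix (Fin (k + 1)) (Fin (k + 1)) F) : (Fin (k + 1) → F) →ₗ[F] (Fin (k + 1) → F) :=
  (P.mulVecLin + nN P) ∘ₗ kap + (LinearMap.proj 0).smulRight (Pi.single (Fin.last k) 1)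

theorem tT_apply (P : Matrix (Fin (k + 1)) (Fin (k + 1)) F) {v : Fin (k + 1) → F} (hv : v 0 = 0) :
    tT P v = P *ᵥ v + nN P v := by
  simp [tT, kap_eq hv, hv]

theorem tT_apply' (P : Matrix (Fin (k + 1)) (Fin (k + 1)) F) (v : Fin (k + 1) → F) :
    tT P v = (P *ᵥ kap v + nN P (kap v)) + v 0 • Pi.single (Fin.last k) 1 := by
  simp [tT]

/-- the least nonzero coordinate -/
theorem exists_least {v : Fin (k + 1) → F} (hv : v ≠ 0) :
    ∃ j, v j ≠ 0 ∧ ∀ l < j, v l = 0 := by
  classical
  have hne : (Finset.univ.filter fun j => v j ≠ 0).Nonempty := by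
    by_contra h
    rw [Finset.not_nonempty_iff_eq_empty] at h
    apply hv
    ext j
    by_contra hj
    have : j ∈ Finset.univ.filter fun j => v j ≠ 0 := by simpa using hj
    rw [h] at this
    simp at this
  refine ⟨(Finset.univ.filter fun j => v j ≠ 0).min' hne, ?_, ?_⟩
  · have := Finset.min'_mem _ hne
    simpa using this
  · intro l hl
    by_contra h
    have hmem : l ∈ Finset.univ.filter fun j => v j ≠ 0 := by simpa using h
    exact absurd (Finset.min'_le _ l hmem) (not_le.mpr hl)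

/-- the least coordinate on which a nonzero subspace is nonzero -/
theorem exists_least_sub {U : Submodule F (Fin (k + 1) → F)} (hU : U ≠ ⊥) :
    ∃ j, (∃ u ∈ U, u j ≠ 0) ∧ ∀ l < j, ∀ u ∈ U, u l = 0 := by
  classical
  obtain ⟨u0, hu0, hne0⟩ := (Submodule.ne_bot_iff _).mp hU
  obtain ⟨j0, hj0, -⟩ := exists_least hne0
  have hne : (Finset.univ.filter fun j : Fin (k + 1) => ∃ u ∈ U, u j ≠ 0).Nonempty :=
    ⟨j0, by simpa using ⟨u0, hu0, hj0⟩⟩
  refine ⟨(Finset.univ.filter fun j : Fin (k + 1) => ∃ u ∈ U, u j ≠ 0).min' hne, ?_, ?_⟩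
  · have := Finset.min'_mem _ hne
    simpa using this
  · intro l hl u hu
    by_contra h
    have hmem : l ∈ Finset.univ.filter fun j : Fin (k + 1) => ∃ u ∈ U, u j ≠ 0 := by
      simpa using ⟨u, hu, h⟩
    exact absurd (Finset.min'_le _ l hmem) (not_le.mpr hl)

variable {P : Matrix (Fin (k + 1)) (Fin (k + 1)) F}

/-- the coordinate just before the least nonzero one -/
theorem tT_pred (hP : LH P) {v : Fin (k + 1) → F} (hv : v 0 = 0) {i j : Fin (k + 1)}
    (hij : (i : ℕ) + 1 = j) (hj : v j ≠ 0) (hl : ∀ l < j, v l = 0) : tT P v i ≠ 0 := by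
  have hil : i < j := by rw [Fin.lt_def]; omega
  rw [tT_apply P hv, Pi.add_apply, hP.apply hij hl, nN_apply, shE_apply P hij, hl i hil, sub_zero]
  by_cases h : P i j = 0
  · simpa [h] using hj
  · simpa [h] using hj

theorem exists_pred {j : Fin (k + 1)} (hj : j ≠ 0) : ∃ i : Fin (k + 1), (i : ℕ) + 1 = j := by
  have : (j : ℕ) ≠ 0 := fun h => hj (Fin.ext h)
  exact ⟨⟨(j : ℕ) - 1, by have := j.2; omega⟩, by simp only; omega⟩

theorem tT_inj (hP : LH P) : Function.Injective (tT P) := by
  rw [← LinearMap.ker_eq_bot, LinearMap.ker_eq_bot']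
  intro v hv
  have hk : kap v = 0 := by
    by_contra hne
    obtain ⟨j, hj, hl⟩ := exists_least hne
    have hj0 : j ≠ 0 := by rintro rfl; exact hj (kap_zero v)
    obtain ⟨i, hij⟩ := exists_pred hj0
    have h1 := tT_pred hP (kap_zero v) hij hj hl
    apply h1
    have h2 := congrFun hv i
    rw [tT_apply'] at h2
    rw [tT_apply P (kap_zero v)]
    have h3 : i ≠ Fin.last k := by
      intro h; rw [h] at hij; have := j.2; rw [Fin.val_last] at hij; omega
    rw [Pi.add_apply, Pi.smul_apply, Pi.single_eq_of_ne h3, smul_zero, add_zero] at h2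
    exact h2
  have h1 : v 0 = 0 := by
    have h2 := congrFun hv (Fin.last k)
    rw [tT_apply', hk, mulVec_zero, map_zero, add_zero, zero_add] at h2
    simpa using h2
  rw [← kap_eq h1, hk]

/-- (i) `T` has no invariant subspace in `K`. -/
theorem tT_obs (hP : LH P) (U : Submodule F (Fin (k + 1) → F)) (hK : ∀ u ∈ U, u 0 = 0)
    (hU : ∀ u ∈ U, tT P u ∈ U) : U = ⊥ := by
  by_contra hne
  obtain ⟨j, ⟨u, hu, huj⟩, hl⟩ := exists_least_sub hne
  have hj0 : j ≠ 0 := by rintro rfl; exact huj (hK u hu)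
  obtain ⟨i, hij⟩ := exists_pred hj0
  have hil : i < j := by rw [Fin.lt_def]; omega
  exact tT_pred hP (hK u hu) hij huj (fun l hlj => hl l hlj u hu) (hl i hil _ (hU u hu))

theorem nN_inj (v : Fin (k + 1) → F) (hv : nN P v = 0) : v = 0 := by
  by_contra hne
  -- the greatest nonzero coordinate
  classical
  have hS : (Finset.univ.filter fun j => v j ≠ 0).Nonempty := by
    obtain ⟨j, hj, -⟩ := exists_least hne
    exact ⟨j, by simpa using hj⟩
  obtain ⟨j, hj⟩ : ∃ j, j = (Finset.univ.filter fun j => v j ≠ 0).max' hS := ⟨_, rfl⟩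
  have hjv : v j ≠ 0 := by
    have := Finset.max'_mem _ hS
    rw [← hj] at this
    simpa using this
  have hgt : ∀ l, j < l → v l = 0 := by
    intro l hl
    by_contra h
    have hmem : l ∈ Finset.univ.filter fun j => v j ≠ 0 := by simpa using h
    have := Finset.le_max' _ l hmem
    rw [← hj] at this
    exact absurd this (not_le.mpr hl)
  have h1 := congrFun hv j
  rw [nN_apply] at h1
  have h2 : shE P v j = 0 := by
    rcases Nat.lt_or_ge ((j : ℕ) + 1) (k + 1) with h | h
    · have hjl : (j : ℕ) + 1 = (⟨(j : ℕ) + 1, h⟩ : Fin (k + 1)) := rfl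
      have hlt : j < ⟨(j : ℕ) + 1, h⟩ := by rw [Fin.lt_def]; simp
      rw [shE_apply P hjl, hgt _ hlt]
      simp
    · exact shE_last P (by have := j.2; omega) v
  rw [h2, zero_sub, Pi.zero_apply, neg_eq_zero] at h1
  exact hjv h1

/-- (ii) `P` does not map a nonzero subspace `U` of `K` into `T U`. -/
theorem tT_obs' (hP : LH P) (hinj : ∀ v, v 0 = 0 → P *ᵥ v = 0 → v = 0)
    (U : Submodule F (Fin (k + 1) → F)) (hK : ∀ u ∈ U, u 0 = 0)
    (hU : U.map P.mulVecLin ≤ U.map (tT P)) : U = ⊥ := by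
  by_contra hne
  have hPT : U.map P.mulVecLin = U.map (tT P) :=
    map_eq_of_le _ _ U (fun u hu h => hinj u (hK u hu) h) hU
  have hNT : U.map (nN P) = U.map (tT P) := by
    apply map_eq_of_le _ _ U (fun u _ h => nN_inj u h)
    rw [Submodule.map_le_iff_le_comap]
    intro u hu
    have h1 : nN P u = tT P u - P.mulVecLin u := by
      rw [tT_apply P (hK u hu)]; simp
    rw [Submodule.mem_comap, h1]
    exact sub_mem (Submodule.mem_map_of_mem hu) (hU (Submodule.mem_map_of_mem hu))
  have hPN : U.map P.mulVecLin = U.map (nN P) := hPT.trans hNT.symm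
  obtain ⟨j, ⟨u, hu, huj⟩, hl⟩ := exists_least_sub hne
  have hj0 : j ≠ 0 := by rintro rfl; exact huj (hK u hu)
  obtain ⟨i, hij⟩ := exists_pred hj0
  have hil : i < j := by rw [Fin.lt_def]; omega
  have hPi : ∀ w ∈ U, (P *ᵥ w) i = P i j * w j := fun w hw =>
    hP.apply hij (fun l hlj => hl l hlj w hw)
  classical
  have hNi : ∀ w ∈ U, nN P w i = if P i j = 0 then w j else 0 := by
    intro w hw
    rw [nN_apply, shE_apply P hij, hl i hil w hw, sub_zero]
  by_cases h : P i j = 0
  · have h1 : nN P u ∈ U.map P.mulVecLin := hPN ▸ Submodule.mem_map_of_mem hu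
    obtain ⟨w, hw, hwu⟩ := h1
    have h2 := congrFun hwu i
    rw [hNi u hu, if_pos h, Matrix.mulVecLin_apply, hPi w hw, h, zero_mul] at h2
    exact huj h2.symm
  · have h1 : P.mulVecLin u ∈ U.map (nN P) := hPN ▸ Submodule.mem_map_of_mem hu
    obtain ⟨w, hw, hwu⟩ := h1
    have h2 := congrFun hwu i
    rw [hNi w hw, if_neg h, Matrix.mulVecLin_apply, hPi u hu] at h2
    exact (mul_ne_zero h huj) h2.symm

end Cfsg.Agent.H962.PP
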